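import Mathlib
import Cfsg.Agent.Nodes.BOdd
import Cfsg.Agent.Nodes.ChartLoc
import Cfsg.Agent.Nodes.ShortSum
import Cfsg.Agent.Nodes.NormalForm
import Cfsg.Agent.Cit.ParabSL2
import Cfsg.Agent.TwoFusion.QuatCoverSL
import Cfsg.Agent.Nodes.GenBase
import Cfsg.Agent.Nodes.ClsMap
import Cfsg.Agent.OddHalf.NI.Props
import Cfsg.Agent.OddHalf.NI.FTwo.ChartB
import Cfsg.Agent.OddHalf.NI.FTwo.CombStd

-- merged: Cfsg.Agent.OddHalf.NI.AutB3Comb
section

/-!
# The root system of type `B₃` (`C`-labels) in explicit vectors (node NI, (K5))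

* `q` : the scalar product of two vectors in simple root coordinates; `ip_eq`, `nonneg_iff`, `zero_iff`;
* `rr = e₁+e₂`, `rs = e₁-e₂`, `rb = e₃`, `ry = e₁+e₃`, `rx = e₁-e₃`, `l1 = e₁`, `l2 = e₂`, `pp = e₂+e₃`, `mm = e₂-e₃`;
* `pos_cases` : the nine positive roots; `refl_eq` : reflections.
-/

set_option autoImplicit false
set_option linter.unusedSectionVars false
set_option linter.dupNamespace false

namespace Cfsg.Agent.OddHalf.NI.AutB3Comb

open Cfsg.Agent.ChevalleyStructure.CoxeterGeom Cfsg.Agent.Tits.Roots Cfsg.Agent.Tits.RootComb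
  Cfsg.Agent.Nodes.Coroot Cfsg.Agent.Nodes.TypeC Cfsg.Agent.Nodes.TypeCForm Cfsg.Agent.Nodes.KindBC

/-- The scalar product in simple root coordinates. -/
def q (x y : Fin 3 → ℤ) : ℤ :=
  x 0 * y 0 + (x 1 - x 0) * (y 1 - y 0) + (2 * x 2 - x 1) * (2 * y 2 - y 1)

theorem ee_eq (x : Fin 3 → ℤ) : ee x = ![x 0, x 1 - x 0, 2 * x 2 - x 1] := by
  funext k
  unfold ee
  rw [Fin.sum_univ_three]
  simp only [Pi.add_apply, Pi.smul_apply, smul_eq_mul, bt_apply]
  fin_cases k <;> simp <;> ring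

theorem ip_eq (x y : Fin 3 → ℤ) : ip (ee x) (ee y) = q x y := by
  rw [ee_eq, ee_eq, ip, Fin.sum_univ_three]
  rfl

/-- `e₁ + e₂` -/
def rr : Fin 3 → ℤ := ![1, 2, 1]
/-- `e₁ - e₂` -/
def rs : Fin 3 → ℤ := ![1, 0, 0]
/-- `e₃` -/
def rb : Fin 3 → ℤ := ![0, 0, 1]
/-- `e₁ + e₃` -/
def ry : Fin 3 → ℤ := ![1, 1, 1]
/-- `e₁ - e₃` -/
def rx : Fin 3 → ℤ := ![1, 1, 0]
/-- `e₁` -/
def l1 : Fin 3 → ℤ := ![2, 2, 1]
/-- `e₂` -/
def l2 : Fin 3 → ℤ := ![0, 2, 1]
/-- `e₂ + e₃` -/
def pp : Fin 3 → ℤ := ![0, 1, 1]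
/-- `e₂ - e₃` -/
def mm : Fin 3 → ℤ := ![0, 1, 0]

section

variable {W : Type*} [Group W] (cs : CoxeterSystem (CoxeterMatrix.B 3) W)

theorem rr_mem : rr ∈ RB 3 := ⟨(0, true), (1, true), by decide, by rw [ee_eq]; decide⟩
theorem rs_mem : rs ∈ RB 3 := ⟨(0, true), (1, false), by decide, by rw [ee_eq]; decide⟩
theorem ry_mem : ry ∈ RB 3 := ⟨(0, true), (2, true), by decide, by rw [ee_eq]; decide⟩
theorem rx_mem : rx ∈ RB 3 := ⟨(0, true), (2, false), by decide, by rw [ee_eq]; decide⟩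
theorem pp_mem : pp ∈ RB 3 := ⟨(1, true), (2, true), by decide, by rw [ee_eq]; decide⟩
theorem mm_mem : mm ∈ RB 3 := ⟨(1, true), (2, false), by decide, by rw [ee_eq]; decide⟩
theorem rb_mem : rb ∈ RC 3 := ⟨(2, true), by rw [ee_eq]; decide⟩
theorem l1_mem : l1 ∈ RC 3 := ⟨(0, true), by rw [ee_eq]; decide⟩
theorem l2_mem : l2 ∈ RC 3 := ⟨(1, true), by rw [ee_eq]; decide⟩

theorem sr0 : (sr 0 : Fin 3 → ℤ) = rs := by decide
theorem sr1 : (sr 1 : Fin 3 → ℤ) = mm := by decide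
theorem sr2 : (sr 2 : Fin 3 → ℤ) = rb := by decide

theorem dom_rr : Dom (A 3) rr := by
  intro i
  rw [← Cf_ee, ee_eq]
  fin_cases i <;> decide

/-- The nine positive roots. -/
theorem pos_cases {x : Fin 3 → ℤ} (hx : IsRoot cs (isCartan 3) x) (h0 : 0 ≤ x) :
    x = rr ∨ x = rs ∨ x = rb ∨ x = ry ∨ x = rx ∨ x = l1 ∨ x = l2 ∨ x = pp ∨ x = mm := by
  obtain ⟨a, b, hab, e⟩ := exists_of_isRoot cs hx
  rw [ee_eq] at e
  have e0 := congrFun e 0
  have e1 := congrFun e 1
  have e2 := congrFun e 2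
  have h00 := h0 0
  have h01 := h0 1
  have h02 := h0 2
  simp only [Pi.zero_apply] at h00 h01 h02
  have key : ∀ a b : Fin 3 × Bool, Ok a b → ∀ u v w : ℤ, 0 ≤ u → 0 ≤ v → 0 ≤ w → u = (wt a + wt b) 0 →
      v - u = (wt a + wt b) 1 → 2 * w - v = (wt a + wt b) 2 →
      (![u, v, w] = rr ∨ ![u, v, w] = rs ∨ ![u, v, w] = rb ∨ ![u, v, w] = ry ∨ ![u, v, w] = rx ∨
      ![u, v, w] = l1 ∨ ![u, v, w] = l2 ∨ ![u, v, w] = pp ∨ ![u, v, w] = mm) := by
    rintro ⟨a, s⟩ ⟨b, t⟩ hab u v w hu hv hw e0 e1 e2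
    unfold Ok at hab
    fin_cases a <;> fin_cases b <;> cases s <;> cases t <;>
      simp [wt, rr, rs, rb, ry, rx, l1, l2, pp, mm] at hab e0 e1 e2 ⊢ <;> omega
  have h1 := key a b hab (x 0) (x 1) (x 2) h00 h01 h02 e0 e1 e2
  have h2 : x = ![x 0, x 1, x 2] := by funext k; fin_cases k <;> rfl
  rw [← h2] at h1
  exact h1

variable {cs}

theorem nonneg_iff [Fintype W] {x r : Fin 3 → ℤ} (hr : IsRoot cs (isCartan 3) r) :
    0 ≤ form cs (isCartan 3) x r ↔ 0 ≤ q x r := by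
  rw [form_nonneg_iff cs hr, ip_eq]

theorem zero_iff [Fintype W] {x r : Fin 3 → ℤ} (hr : IsRoot cs (isCartan 3) r) :
    form cs (isCartan 3) x r = 0 ↔ q x r = 0 := by
  rw [form_eq_zero_iff cs hr, ip_eq]

theorem cpr_q [Finite W] (x : Fin 3 → ℤ) {y : Fin 3 → ℤ} (hy : IsRoot cs (isCartan 3) y) {k : ℤ}
    (h0 : q y y ≠ 0) (hk : k * q y y = 2 * q x y) : cpr cs (isCartan 3) x y = k := by
  have h1 := cpr_mul_ip cs x hy
  rw [ip_eq, ip_eq, ← hk] at h1
  exact mul_right_cancel₀ h0 h1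

/-- Reflections. -/
theorem refl_eq [Finite W] {x y x' : Fin 3 → ℤ} (hy : IsRoot cs (isCartan 3) y) (k : ℤ)
    (h0 : q y y ≠ 0) (hk : k * q y y = 2 * q x y) (hx' : x' = x - k • y) :
    x - cpr cs (isCartan 3) x y • y = x' := by
  rw [cpr_q x hy h0 hk, hx']

end

end Cfsg.Agent.OddHalf.NI.AutB3Comb

end

-- merged: Cfsg.Agent.OddHalf.NI.AutB3Std
section

/-!
# The root group `X (e₁+e₃)` in a chart of type `B₃` (node NI, (K5))

`S : Std cs p T nn X Z z` : classical data of type `B₃` of `Y`, `X r = Z r` for the long roots.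

* `Std.short` : an element of `X e₁` commuting with `X e₃` is trivial;
* `Std.mem_ry` : `v ∈ VV (e₁+e₂) ⊓ VV (e₁-e₂)` inverted by `z (e₁+e₂)`, commuting with `X (e₁-e₂)`, `X e₃` lies in
  `X (e₁+e₃)`;
* `Std.map_ry` : an automorphism which fixes `X (e₁+e₂)`, `X (e₁-e₂)`, `X e₃` and `z (e₁+e₂)` fixes `X (e₁+e₃)`.
-/

set_option autoImplicit false
set_option linter.unusedSectionVars false
set_option linter.dupNamespace false

namespace Cfsg.Agent.OddHalf.NI.AutB3Std

open CoxeterSystem Cfsg.Agent.ChevalleyStructure.CoxeterGeom Cfsg.Agent.Tits.Roots Cfsg.Agent.Tits.Core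
  Cfsg.Agent.Tits.RootComb Cfsg.Agent.Nodes.Comb Cfsg.Agent.Nodes.Reps Cfsg.Agent.Nodes.BNOf
  Cfsg.Agent.Nodes.RGDLib Cfsg.Agent.Nodes.Chart Cfsg.Agent.Nodes.Coroot Cfsg.Agent.Nodes.Perp
  Cfsg.Agent.Nodes.ZRel Cfsg.Agent.Nodes.TypeC Cfsg.Agent.Nodes.TypeCForm Cfsg.Agent.Nodes.KindBC
  Cfsg.Agent.Nodes.ShortSum Cfsg.Agent.Nodes.ChartLoc Cfsg.Agent.Nodes.Bruhat Cfsg.Agent.Nodes.LeviDec
  Cfsg.Agent.OddHalf.NI.AutB3Comb
open scoped commutatorElement

variable {W Y : Type*} [Group W] [Fintype W] [Group Y]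

/-- Classical data of type `B₃` of the whole group `Y`. -/
structure Std (cs : CoxeterSystem (CoxeterMatrix.B 3) W) (p : ℕ) (T : Subgroup Y) (nn : Fin 3 → Y)
    (X Z : (Fin 3 → ℤ) → Subgroup Y) (z : (Fin 3 → ℤ) → Y) : Prop where
  C : Cls cs (isCartan 3) p T nn X (RB 3) Z z
  prime : p.Prime
  odd : p ≠ 2
  XZ : ∀ r ∈ RB 3, X r = Z r
  gen : G1 cs (isCartan 3) X = ⊤
  cen : ∀ g, z rr * z rs * g = g * (z rr * z rs)

namespace Std

variable {cs : CoxeterSystem (CoxeterMatrix.B 3) W} {p : ℕ} {T : Subgroup Y} {nn : Fin 3 → Y}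
  {X Z : (Fin 3 → ℤ) → Subgroup Y} {z : (Fin 3 → ℤ) → Y} (S : Std cs p T nn X Z z)

include S

/-! ### Elementary -/

theorem rB {r : Fin 3 → ℤ} (hr : r ∈ RB 3) : IsRoot cs (isCartan 3) r := root_RB cs hr

theorem rC {r : Fin 3 → ℤ} (hr : r ∈ RC 3) : IsRoot cs (isCartan 3) r := root_RC cs hr

theorem cent {r x : Fin 3 → ℤ} (hr : r ∈ RB 3) (hx : IsRoot cs (isCartan 3) x) (hq : 0 ≤ q x r) {a b : Y}
    (ha : a ∈ X x) (hb : b ∈ X r) : a * b = b * a :=
  S.C.cent r hr x hx ((nonneg_iff (S.rB hr)).2 hq) a ha b (S.XZ r hr ▸ hb)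

theorem zz (r : Fin 3 → ℤ) (hr : r ∈ RB 3) : z r * z r = 1 := S.C.z_sq r hr

theorem zi (r : Fin 3 → ℤ) (hr : r ∈ RB 3) : (z r)⁻¹ = z r := inv_eq_of_mul_eq_one_left (S.zz r hr)

theorem zinv {r x : Fin 3 → ℤ} (hr : r ∈ RB 3) (hx : IsRoot cs (isCartan 3) x) (h1 : x ≠ r) (h2 : x ≠ -r)
    (hq : q x r ≠ 0) {a : Y} (ha : a ∈ X x) : z r * a * z r = a⁻¹ :=
  S.C.z_inv r hr x hx h1 h2 (fun h0 => hq ((zero_iff (S.rB hr)).1 h0)) a ha

theorem zcent {r x : Fin 3 → ℤ} (hr : r ∈ RB 3) (hx : IsRoot cs (isCartan 3) x) (hq : q x r = 0) {a : Y}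
    (ha : a ∈ X x) : z r * a * z r = a := by
  rw [← z_cent_of_orth S.C hr hx ((zero_iff (S.rB hr)).2 hq) ha, mul_assoc, S.zz r hr, mul_one]

theorem zself {r : Fin 3 → ℤ} (hr : r ∈ RB 3) {a : Y} (ha : a ∈ X r) : z r * a * z r = a := by
  rw [S.C.z_cent r hr a (S.XZ r hr ▸ ha), mul_assoc, S.zz r hr, mul_one]

theorem neg_mem {r : Fin 3 → ℤ} (hr : r ∈ RB 3) : -r ∈ RB 3 := Cfsg.Agent.Nodes.Perp.neg_mem S.C hr

theorem zself' {r : Fin 3 → ℤ} (hr : r ∈ RB 3) {a : Y} (ha : a ∈ X (-r)) : z r * a * z r = a := by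
  rw [← S.C.z_neg r hr]
  exact S.zself (S.neg_mem hr) ha

theorem ex {x : Fin 3 → ℤ} (hx : IsRoot cs (isCartan 3) x) : ∃ u ∈ X x, u ≠ 1 := by
  by_contra h0
  push Not at h0
  exact Cfsg.Agent.Nodes.StdConn.X_ne_bot S.C hx ((Subgroup.eq_bot_iff_forall _).2 h0)

theorem eq_one {x : Fin 3 → ℤ} (hx : IsRoot cs (isCartan 3) x) {b : Y} (hb : b ∈ X x) (e : b = b⁻¹) : b = 1 :=
  eq_one_of_inv S.C S.prime S.odd hx hb e

theorem inf {x y : Fin 3 → ℤ} (hx : IsRoot cs (isCartan 3) x) (hy : IsRoot cs (isCartan 3) y) (hxy : x ≠ y)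
    {g : Y} (h1 : g ∈ X x) (h2 : g ∈ X y) : g = 1 := by
  have h3 := Cfsg.Agent.Nodes.OppDec.X_inf_X S.C.rgd hx hy hxy
  have h4 : g ∈ X x ⊓ X y := ⟨h1, h2⟩
  rw [h3] at h4
  exact h4

/-- The element `n (u)`. -/
theorem exists_n {c : Fin 3 → ℤ} (hc : IsRoot cs (isCartan 3) c) {u : Y} (hu : u ∈ X c) (hu1 : u ≠ 1) :
    ∃ a ∈ X (-c), ∃ a' ∈ X (-c), ∀ x x' : Fin 3 → ℤ, IsRoot cs (isCartan 3) x →
      x - cpr cs (isCartan 3) x c • c = x' → cj (a * u * a') (X x) = X x' := by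
  obtain ⟨a, ha, a', ha', w, hw, ew⟩ := exists_refl_LL S.C.rgd hc.neg (b := u) (by rw [neg_neg]; exact hu) hu1
  refine ⟨a, ha, a', ha', fun x x' hx e => ?_⟩
  rw [S.C.rgd.conj_rp hw hx, ew, ← e]
  congr 1
  rw [cpr_neg_right cs (isCartan 3) x hc]
  module

theorem kill {a c a' : Fin 3 → ℤ} (ha : IsRoot cs (isCartan 3) a) (hc : IsRoot cs (isCartan 3) c)
    (hrefl : a - cpr cs (isCartan 3) a c • c = a') (ha' : IsRoot cs (isCartan 3) a') (hne : a ≠ a') {g u : Y}
    (hg : g ∈ X a) (hu : u ∈ X c) (hu1 : u ≠ 1) (hgu : g * u = u * g) (hcm : ∀ v ∈ X (-c), g * v = v * g) :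
    g = 1 := by
  obtain ⟨b, hb, b', hb', h1⟩ := S.exists_n hc hu hu1
  refine S.inf ha ha' hne hg ?_
  rw [← h1 a a' ha hrefl, mem_cj]
  have h2 : g * (b * u * b') = (b * u * b') * g := by
    rw [← mul_assoc, ← mul_assoc, hcm b hb, mul_assoc b g u, hgu, mul_assoc, mul_assoc, mul_assoc, hcm b' hb']
    group
  rw [mul_assoc, h2, inv_mul_cancel_left]
  exact hg

/-- **Short roots.** An element of `X e₁` commuting with `X e₃` is trivial. -/
theorem short {d : Y} (hd : d ∈ X l1) (hc : ∀ u ∈ X rb, d * u = u * d) : d = 1 := by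
  have r1 := S.rC l1_mem
  have r3 := S.rC rb_mem
  have ry' := S.rB ry_mem
  have rx' := S.rB rx_mem
  have o13 : form cs (isCartan 3) l1 rb = 0 := (zero_iff r3).2 (by decide)
  have hlen : form cs (isCartan 3) l1 l1 = form cs (isCartan 3) rb rb := by
    have e1 := two_form_cpr cs (isCartan 3) ry r1
    have e2 := two_form_cpr cs (isCartan 3) ry r3
    have e3 := two_form_cpr cs (isCartan 3) l1 ry'
    have e4 := two_form_cpr cs (isCartan 3) rb ry'
    rw [cpr_q ry r1 (k := 1) (by decide) (by decide)] at e1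
    rw [cpr_q ry r3 (k := 1) (by decide) (by decide)] at e2
    rw [cpr_q l1 ry' (k := 2) (by decide) (by decide), form_comm] at e3
    rw [cpr_q rb ry' (k := 2) (by decide) (by decide), form_comm] at e4
    omega
  have sq := Sq.of_add (m := 2) (by norm_num) r1 r3 ry' o13 hlen (by decide)
  have e0 : ry - cpr cs (isCartan 3) ry l1 • l1 = -rx := refl_eq r1 1 (by decide) (by decide) (by decide)
  rw [e0] at sq
  have sS := sq.flip
  by_contra hd1
  obtain ⟨u, hu, hu1⟩ := S.ex rx'.neg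
  -- `⁅d, u⁆ = g3 * gy`
  obtain ⟨g3, h3, gy, hy, hg⟩ : ∃ v ∈ X rb, ∃ w ∈ X ry, ⁅d, u⁆ = v * w := by
    refine mem_sup_of_cm (fun a ha c hc => S.cent ry_mem r3 (by decide) ha hc) ?_
    refine btw_le ?_ (S.C.rgd.comm l1 (-rx) r1 rx'.neg sq.ne_b.1 sq.ne_b.2 d hd u hu)
    intro r hr
    rcases sq.btwn' hr with rfl | rfl
    · exact le_sup_left
    · exact le_sup_right
  have hcy : ∀ g ∈ X ry, d * g = g * d := fun g hg => S.cent ry_mem r1 (by decide) hd hg
  have h3y : g3 * gy = gy * g3 := S.cent ry_mem r3 (by decide) h3 hy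
  -- `z (e₁-e₃)`
  have zr := S.zz rx rx_mem
  have zd := S.zinv rx_mem r1 (by decide) (by decide) (by decide) hd
  have zu := S.zself' rx_mem hu
  have z3 := S.zinv rx_mem r3 (by decide) (by decide) (by decide) h3
  have zy := S.zcent rx_mem ry' (by decide) hy
  have hdg : d * (g3 * gy) = g3 * gy * d := by
    rw [← mul_assoc, hc g3 h3, mul_assoc, hcy gy hy, mul_assoc]
  have hdiv : ∀ a b : Y, z rx * (a * b) * z rx = (z rx * a * z rx) * (z rx * b * z rx) := by
    intro a b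
    calc z rx * (a * b) * z rx = z rx * a * 1 * b * z rx := by group
      _ = z rx * a * (z rx * z rx) * b * z rx := by rw [zr]
      _ = _ := by group
  have zinv' : ∀ a : Y, z rx * a⁻¹ * z rx = (z rx * a * z rx)⁻¹ := by
    intro a
    rw [mul_inv_rev, mul_inv_rev, S.zi rx rx_mem]; group
  have h5 : z rx * ⁅d, u⁆ * z rx = ⁅d, u⁆⁻¹ := by
    rw [commutatorElement_def, hdiv, hdiv, hdiv, zinv', zinv', zd, zu]
    have h6 : ⁅d, u⁆ = d * u * d⁻¹ * u⁻¹ := commutatorElement_def _ _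
    rw [hg] at h6
    have h7 : u * d * u⁻¹ * d⁻¹ = (g3 * gy)⁻¹ := by rw [h6]; group
    have h8 : d⁻¹ * u * d * u⁻¹ = d⁻¹ * (u * d * u⁻¹ * d⁻¹) * d := by group
    rw [inv_inv, h8, h7, ← h6]
    have h9 : d⁻¹ * (g3 * gy)⁻¹ * d = (d⁻¹ * (g3 * gy) * d)⁻¹ := by group
    rw [h9, mul_assoc, ← hdg, inv_mul_cancel_left]
  have hy1 : gy = 1 := by
    rw [hg, hdiv, z3, zy, mul_inv_rev] at h5
    refine S.eq_one ry' hy ?_
    have h6 : g3⁻¹ * gy = gy⁻¹ * g3⁻¹ := h5
    have h7 : g3⁻¹ * gy = gy * g3⁻¹ := by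
      rw [inv_mul_eq_iff_eq_mul, ← mul_assoc, h3y, mul_inv_cancel_right]
    rw [h7] at h6
    exact mul_right_cancel h6
  subst hy1
  rw [mul_one] at hg
  have hdu : d * u * d⁻¹ = g3 * u := by
    rw [← hg, commutatorElement_def]; group
  obtain ⟨a, ha, a', ha', hn⟩ := S.exists_n r1 hd hd1
  have hca : ∀ v ∈ X (-l1), v * u = u * v := fun v hv => S.cent (S.neg_mem rx_mem) r1.neg (by decide) hv hu
  obtain ⟨f, hf, h4⟩ : ∃ f ∈ X (-rx), a * g3 * a⁻¹ = f * g3 := by
    refine ⟨⁅a, g3⁆, ?_, by rw [commutatorElement_def]; group⟩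
    refine btw_le ?_ (S.C.rgd.comm (-l1) rb r1.neg r3 sS.ne₁ sS.ne₂ a ha g3 h3)
    intro r hr
    rw [sS.btwn hr]
  have h6 : (a * d * a') * u * (a * d * a')⁻¹ = f * (g3 * u) := by
    calc (a * d * a') * u * (a * d * a')⁻¹ = a * (d * (a' * u * a'⁻¹) * d⁻¹) * a⁻¹ := by group
      _ = a * (g3 * u) * a⁻¹ := by rw [hca a' ha', mul_inv_cancel_right, hdu]
      _ = (a * g3 * a⁻¹) * (a * u * a⁻¹) := by group
      _ = _ := by rw [h4, hca a ha, mul_inv_cancel_right, mul_assoc]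
  have h7 : (a * d * a') * u * (a * d * a')⁻¹ ∈ X ry := by
    rw [← hn (-rx) ry rx'.neg (refl_eq r1 (-1) (by decide) (by decide) (by decide))]
    exact conj_mem_cj.2 hu
  rw [h6] at h7
  have z1 := S.zcent rx_mem ry' (by decide) h7
  have zf := S.zself' rx_mem hf
  rw [hdiv, hdiv, zf, z3, zu] at z1
  have h8 : g3⁻¹ = g3 := by
    have := mul_left_cancel z1
    exact mul_right_cancel this
  have h9 : g3 = 1 := S.eq_one r3 h3 h8.symm
  rw [h9, one_mul] at h7
  have h10 := S.inf rx'.neg ry' (by decide) (mul_mem hf hu) h7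
  rw [h9, one_mul] at hdu
  refine hu1 (S.inf rx'.neg ry' (by decide) hu ?_)
  have h11 : (a * d * a') * u * (a * d * a')⁻¹ = u := by
    calc (a * d * a') * u * (a * d * a')⁻¹ = a * (d * (a' * u * a'⁻¹) * d⁻¹) * a⁻¹ := by group
      _ = u := by rw [hca a' ha', mul_inv_cancel_right, hdu, hca a ha, mul_inv_cancel_right]
  rw [← h11, ← hn (-rx) ry rx'.neg (refl_eq r1 (-1) (by decide) (by decide) (by decide))]
  exact conj_mem_cj.2 hu

/-! ### `X (e₁+e₃)` -/

theorem zdiv {r : Fin 3 → ℤ} (hr : r ∈ RB 3) (a b : Y) : z r * (a * b) * z r = (z r * a * z r) * (z r * b * z r) := by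
  calc z r * (a * b) * z r = z r * a * 1 * b * z r := by group
    _ = z r * a * (z r * z r) * b * z r := by rw [S.zz r hr]
    _ = _ := by group

theorem zinv' {r : Fin 3 → ℤ} (hr : r ∈ RB 3) (a : Y) : z r * a⁻¹ * z r = (z r * a * z r)⁻¹ := by
  rw [mul_inv_rev, mul_inv_rev, S.zi r hr]; group

theorem zcomm {r : Fin 3 → ℤ} (hr : r ∈ RB 3) {a : Y} (h : z r * a * z r = a) : a * z r = z r * a := by
  nth_rewrite 1 [← h]
  rw [mul_assoc, S.zz r hr, mul_one]

/-- An element of `U` commuting with `t ∈ T` lies in every subgroup containing the root elements commuting with `t`. -/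
theorem mem_of_cent {t v : Y} (ht : t ∈ T) (hv : v ∈ RGD.Sup X (RGD.Pos cs (isCartan 3))) (hvt : v * t = t * v)
    {P : Subgroup Y} (hP : ∀ x, IsRoot cs (isCartan 3) x → 0 ≤ x → ∀ g ∈ X x, g * t = t * g → g ∈ P) : v ∈ P := by
  have h1 : v ∈ RGD.Sup (fun x => X x ⊓ Subgroup.centralizer {t}) (RGD.Pos cs (isCartan 3)) := by
    rw [← Cfsg.Agent.Nodes.NormalForm.centralizer_U S.C.rgd (Set.singleton_subset_iff.2 ht)]
    exact ⟨hv, Subgroup.mem_centralizer_singleton_iff.2 hvt⟩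
  refine (RGD.Sup_le (fun x hx => ?_)) h1
  rintro g ⟨hg, hgt⟩
  exact hP x hx.1 hx.2 g hg (Subgroup.mem_centralizer_singleton_iff.1 hgt)

theorem VV_le_U : VV cs (isCartan 3) X rr ≤ RGD.Sup X (RGD.Pos cs (isCartan 3)) := by
  rw [VV_eq_VJ dom_rr]
  exact VJ_le_U _

theorem mem_VV {r x : Fin 3 → ℤ} (hr : r ∈ RB 3) (hx : IsRoot cs (isCartan 3) x) (hq : 0 < q x r) {a : Y}
    (ha : a ∈ X x) : a ∈ VV cs (isCartan 3) X r := by
  refine RGD.le_Sup (S := {y | IsRoot cs (isCartan 3) y ∧ 0 < form cs (isCartan 3) y r}) ⟨hx, ?_⟩ ha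
  have h1 := (nonneg_iff (cs := cs) (x := x) (S.rB hr)).2 hq.le
  have h2 : form cs (isCartan 3) x r ≠ 0 := fun h0 => hq.ne' ((zero_iff (S.rB hr)).1 h0)
  omega

variable [Finite Y]

theorem sq_eq_one {v : Y} {r : Fin 3 → ℤ} (hv : v ∈ VV cs (isCartan 3) X r) {K : Subgroup Y} (h : v * v ∈ K) :
    v ∈ K := by
  have : Fact p.Prime := ⟨S.prime⟩
  refine mem_of_odd_sq S.C S.odd ?_ h
  have h1 := odd_card_VV S.C S.odd r
  have h2 : orderOf v ∣ Nat.card (VV cs (isCartan 3) X r) := by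
    rw [← Subgroup.orderOf_mk v hv]
    exact orderOf_dvd_natCard _
  exact h1.of_dvd_nat h2

/-- **The root group of `e₁ + e₃`.** -/
theorem mem_ry {v : Y} (hv : v ∈ VV cs (isCartan 3) X rr) (hv' : v ∈ VV cs (isCartan 3) X rs)
    (hvs : ∀ u ∈ X rs, v * u = u * v) (hvb : ∀ u ∈ X rb, v * u = u * v) (hz : z rr * v * z rr = v⁻¹) :
    v ∈ X ry := by
  have : Fact p.Prime := ⟨S.prime⟩
  have Rr := S.rB rr_mem
  have Rs := S.rB rs_mem
  have Ry := S.rB ry_mem
  have Rx := S.rB rx_mem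
  have Rp := S.rB pp_mem
  have Rm := S.rB mm_mem
  have Rb := S.rC rb_mem
  have R1 := S.rC l1_mem
  have R2 := S.rC l2_mem
  have zy := S.zz ry ry_mem
  set w := z ry * v * z ry with hw
  -- `w` is in the same groups
  have hzN : ∀ r : Fin 3 → ℤ, ∀ g ∈ VV cs (isCartan 3) X r, z ry * g * z ry ∈ VV cs (isCartan 3) X r := by
    intro r g hg
    have h1 : z ry ∈ Subgroup.normalizer (VV cs (isCartan 3) X r : Set Y) :=
      S.C.rgd.T_le_normalizer (fun _ hy => hy.1) (S.C.z_torus ry ry_mem)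
    have h2 := (Subgroup.mem_normalizer_iff.1 h1 g).1 hg
    rwa [S.zi ry ry_mem] at h2
  have hw1 : w ∈ VV cs (isCartan 3) X rr := hzN rr v hv
  have hw2 : w ∈ VV cs (isCartan 3) X rs := hzN rs v hv'
  have hvw : v * w = w * v := by
    have h1 : ⁅v, w⁆ ∈ Z rr := commutator_VV_le S.C S.odd rr_mem (Subgroup.commutator_mem_commutator hv hw1)
    have h2 : ⁅v, w⁆ ∈ Z rs := commutator_VV_le S.C S.odd rs_mem (Subgroup.commutator_mem_commutator hv' hw2)
    rw [← S.XZ rr rr_mem] at h1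
    rw [← S.XZ rs rs_mem] at h2
    exact commutatorElement_eq_one_iff_mul_comm.1 (S.inf Rr Rs (by decide) h1 h2)
  have hzw : z ry * w * z ry = v := by
    rw [hw]
    calc z ry * (z ry * v * z ry) * z ry = (z ry * z ry) * v * (z ry * z ry) := by group
      _ = v := by rw [zy, one_mul, mul_one]
  -- commutation with `X rs`, `X rb`
  have hwc : ∀ c : Fin 3 → ℤ, (∀ u ∈ X c, z ry * u * z ry ∈ X c) → (∀ u ∈ X c, v * u = u * v) →
      ∀ u ∈ X c, w * u = u * w := by
    intro c h1 h2 u hu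
    have h3 := h2 _ (h1 u hu)
    have h4 : z ry * (v * (z ry * u * z ry)) * z ry = z ry * ((z ry * u * z ry) * v) * z ry := by rw [h3]
    have h5 : z ry * (z ry * u * z ry) * z ry = u := by
      calc z ry * (z ry * u * z ry) * z ry = (z ry * z ry) * u * (z ry * z ry) := by group
        _ = u := by rw [zy, one_mul, mul_one]
    rw [S.zdiv ry_mem v, S.zdiv ry_mem (z ry * u * z ry) v, h5] at h4
    exact h4
  have hws := hwc rs (fun u hu => by
    rw [S.zinv ry_mem Rs (by decide) (by decide) (by decide) hu]; exact inv_mem hu) hvs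
  have hwb := hwc rb (fun u hu => by
    rw [S.zinv ry_mem Rb (by decide) (by decide) (by decide) hu]; exact inv_mem hu) hvb
  have hwi : z rr * w * z rr = w⁻¹ := by
    have h1 := z_comm S.C rr_mem ry_mem
    calc z rr * (z ry * v * z ry) * z rr = (z rr * z ry) * v * (z ry * z rr) := by group
      _ = (z ry * z rr) * v * (z rr * z ry) := by rw [h1]
      _ = z ry * (z rr * v * z rr) * z ry := by group
      _ = w⁻¹ := by rw [hz, S.zinv' ry_mem]
  -- the part centralised by `z ry`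
  have hA : v * w ∈ X ry := by
    have h1 : v * w ∈ X ry ⊔ (X rx ⊔ X l2) := by
      refine S.mem_of_cent (S.C.z_torus ry ry_mem) (S.VV_le_U (mul_mem hv hw1)) ?_ ?_
      · refine S.zcomm ry_mem ?_
        rw [S.zdiv ry_mem, ← hw, hzw, hvw]
      · intro x hx h0 g hg hgt
        have hfix : z ry * g * z ry = g := by rw [← hgt, mul_assoc, zy, mul_one]
        have hk : x ≠ ry → x ≠ -ry → q x ry ≠ 0 → g ∈ X ry ⊔ (X rx ⊔ X l2) := by
          intro h1 h2 h3
          have h4 := S.zinv ry_mem hx h1 h2 h3 hg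
          rw [hfix] at h4
          rw [S.eq_one hx hg h4]
          exact one_mem _
        rcases pos_cases cs hx h0 with e | e | e | e | e | e | e | e | e
        · subst e; exact hk (by decide) (by decide) (by decide)
        · subst e; exact hk (by decide) (by decide) (by decide)
        · subst e; exact hk (by decide) (by decide) (by decide)
        · subst e; exact le_sup_left (a := X ry) hg
        · subst e; exact (le_sup_left.trans le_sup_right : X rx ≤ X ry ⊔ (X rx ⊔ X l2)) hg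
        · subst e; exact hk (by decide) (by decide) (by decide)
        · subst e; exact (le_sup_right.trans le_sup_right : X l2 ≤ X ry ⊔ (X rx ⊔ X l2)) hg
        · subst e; exact hk (by decide) (by decide) (by decide)
        · subst e; exact hk (by decide) (by decide) (by decide)
    have cxy : ∀ a ∈ X rx, ∀ b ∈ X ry, a * b = b * a := fun a ha b hb => S.cent ry_mem Rx (by decide) ha hb
    have c2y : ∀ a ∈ X l2, ∀ b ∈ X ry, a * b = b * a := fun a ha b hb => S.cent ry_mem R2 (by decide) ha hb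
    have c2x : ∀ a ∈ X l2, ∀ b ∈ X rx, a * b = b * a := fun a ha b hb => S.cent rx_mem R2 (by decide) ha hb
    obtain ⟨gy, hgy, g', hg', e1⟩ := mem_sup_of_cm (K := X ry) (L := X rx ⊔ X l2) (by
      intro a ha b hb
      have h2 : X rx ⊔ X l2 ≤ Subgroup.centralizer (X ry : Set Y) := by
        refine sup_le (fun b hb => ?_) (fun b hb => ?_)
        · exact Subgroup.mem_centralizer_iff.2 fun a ha => (cxy b hb a ha).symm
        · exact Subgroup.mem_centralizer_iff.2 fun a ha => (c2y b hb a ha).symm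
      exact Subgroup.mem_centralizer_iff.1 (h2 hb) a ha) h1
    obtain ⟨gx, hgx, g2, hg2, e2⟩ := mem_sup_of_cm (K := X rx) (L := X l2)
      (fun a ha b hb => (c2x b hb a ha).symm) hg'
    -- `g2 = 1`
    have hc : ∀ u ∈ X rs, (v * w) * u = u * (v * w) := fun u hu => by
      rw [mul_assoc, hws u hu, ← mul_assoc, hvs u hu, mul_assoc]
    have hc' : ∀ u ∈ X rb, (v * w) * u = u * (v * w) := fun u hu => by
      rw [mul_assoc, hwb u hu, ← mul_assoc, hvb u hu, mul_assoc]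
    have h2 : g2 = 1 := by
      obtain ⟨u, hu, hu1⟩ := S.ex Rs
      refine S.kill R2 Rs (refl_eq Rs (-2) (by decide) (by decide) (by decide) : _ = l1) R1 (by decide) hg2 hu hu1 ?_
        (fun a ha => S.cent (S.neg_mem rs_mem) R2 (by decide) hg2 ha)
      have h3 := hc u hu
      rw [e1, e2] at h3
      have k1 : gy * u = u * gy := S.cent rs_mem Ry (by decide) hgy hu
      have k2 : gx * u = u * gx := S.cent rs_mem Rx (by decide) hgx hu
      have h4 : gy * (gx * (g2 * u)) = gy * (gx * (u * g2)) := by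
        calc gy * (gx * (g2 * u)) = gy * (gx * g2) * u := by group
          _ = u * (gy * (gx * g2)) := h3
          _ = (u * gy) * gx * g2 := by group
          _ = gy * (u * gx) * g2 := by rw [← k1]; group
          _ = _ := by rw [← k2]; group
      exact mul_left_cancel (mul_left_cancel h4)
    have h3 : gx = 1 := by
      obtain ⟨u, hu, hu1⟩ := S.ex Rb
      refine S.kill Rx Rb (refl_eq Rb (-1) (by decide) (by decide) (by decide) : _ = ry) Ry (by decide) hgx hu hu1 ?_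
        (fun a ha => (S.cent rx_mem Rb.neg (by decide) ha hgx).symm)
      have h3 := hc' u hu
      rw [e1, e2, h2, mul_one] at h3
      have k1 : gy * u = u * gy := (S.cent ry_mem Rb (by decide) hu hgy).symm
      have h4 : gy * (gx * u) = gy * (u * gx) := by
        rw [← mul_assoc, h3, ← mul_assoc, ← mul_assoc, k1]
      exact mul_left_cancel h4
    rw [e1, e2, h2, h3, mul_one, mul_one]
    exact hgy
  -- the part inverted by `z ry`
  have hB : v * w⁻¹ = 1 := by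
    set d := v * w⁻¹ with hd
    have hd1 : z ry * d * z ry = d⁻¹ := by
      rw [hd, S.zdiv ry_mem, ← hw, S.zinv' ry_mem, hzw]; group
    have hd2 : z rr * d * z rr = d⁻¹ := by
      rw [hd, S.zdiv rr_mem, hz, S.zinv' rr_mem, hwi, inv_inv, mul_inv_rev, inv_inv, inv_mul_eq_iff_eq_mul,
        ← mul_assoc, hvw, mul_inv_cancel_right]
    have h1 : d ∈ X l1 ⊔ (X pp ⊔ X mm) := by
      refine S.mem_of_cent (t := z rr * z ry) (mul_mem (S.C.z_torus rr rr_mem) (S.C.z_torus ry ry_mem))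
        (S.VV_le_U (mul_mem hv (inv_mem hw1))) ?_ ?_
      · have h2 : z rr * (z ry * d * z ry) * z rr = d := by rw [hd1, S.zinv' rr_mem, hd2, inv_inv]
        have h3 : d * (z rr * z ry) = z rr * (z ry * d * z ry) * z rr * (z rr * z ry) := by rw [h2]
        rw [h3]
        calc z rr * (z ry * d * z ry) * z rr * (z rr * z ry) = z rr * z ry * d * z ry * (z rr * z rr) * z ry := by
              group
          _ = z rr * z ry * d * (z ry * z ry) := by rw [S.zz rr rr_mem]; group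
          _ = _ := by rw [zy, mul_one]
      · intro x hx h0 g hg hgt
        have hfix : z rr * (z ry * g * z ry) * z rr = g := by
          have h3 := z_comm S.C rr_mem ry_mem
          calc z rr * (z ry * g * z ry) * z rr = (z rr * z ry) * g * (z ry * z rr) := by group
            _ = g * (z rr * z ry) * (z ry * z rr) := by rw [hgt]
            _ = g * z rr * (z ry * z ry) * z rr := by group
            _ = g * (z rr * z rr) := by rw [zy]; group
            _ = g := by rw [S.zz rr rr_mem, mul_one]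
        have ky : x ≠ ry → x ≠ -ry → q x ry ≠ 0 → (∀ a ∈ X x, z rr * a * z rr = a) →
            g ∈ X l1 ⊔ (X pp ⊔ X mm) := by
          intro h1 h2 h3 h4
          rw [S.zinv ry_mem hx h1 h2 h3 hg, h4 _ (inv_mem hg)] at hfix
          rw [S.eq_one hx hg hfix.symm]
          exact one_mem _
        have kr : x ≠ rr → x ≠ -rr → q x rr ≠ 0 → (∀ a ∈ X x, z ry * a * z ry = a) →
            g ∈ X l1 ⊔ (X pp ⊔ X mm) := by
          intro h1 h2 h3 h4
          rw [h4 _ hg, S.zinv rr_mem hx h1 h2 h3 hg] at hfix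
          rw [S.eq_one hx hg hfix.symm]
          exact one_mem _
        rcases pos_cases cs hx h0 with e | e | e | e | e | e | e | e | e
        · subst e; exact ky (by decide) (by decide) (by decide) fun a ha => S.zself rr_mem ha
        · subst e; exact ky (by decide) (by decide) (by decide) fun a ha => S.zcent rr_mem Rs (by decide) ha
        · subst e; exact ky (by decide) (by decide) (by decide) fun a ha => S.zcent rr_mem Rb (by decide) ha
        · subst e; exact kr (by decide) (by decide) (by decide) fun a ha => S.zself ry_mem ha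
        · subst e; exact kr (by decide) (by decide) (by decide) fun a ha => S.zcent ry_mem Rx (by decide) ha
        · subst e; exact le_sup_left (a := X l1) hg
        · subst e; exact kr (by decide) (by decide) (by decide) fun a ha => S.zcent ry_mem R2 (by decide) ha
        · subst e; exact (le_sup_left.trans le_sup_right : X pp ≤ X l1 ⊔ (X pp ⊔ X mm)) hg
        · subst e; exact (le_sup_right.trans le_sup_right : X mm ≤ X l1 ⊔ (X pp ⊔ X mm)) hg
    have cp1 : ∀ a ∈ X l1, ∀ b ∈ X pp, a * b = b * a := fun a ha b hb => S.cent pp_mem R1 (by decide) ha hb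
    have cm1 : ∀ a ∈ X l1, ∀ b ∈ X mm, a * b = b * a := fun a ha b hb => S.cent mm_mem R1 (by decide) ha hb
    have cpm : ∀ a ∈ X pp, ∀ b ∈ X mm, a * b = b * a := fun a ha b hb => S.cent mm_mem Rp (by decide) ha hb
    obtain ⟨g1, hg1, g', hg', e1⟩ := mem_sup_of_cm (K := X l1) (L := X pp ⊔ X mm) (by
      intro a ha b hb
      have h2 : X pp ⊔ X mm ≤ Subgroup.centralizer (X l1 : Set Y) := by
        refine sup_le (fun b hb => ?_) (fun b hb => ?_)
        · exact Subgroup.mem_centralizer_iff.2 fun a ha => cp1 a ha b hb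
        · exact Subgroup.mem_centralizer_iff.2 fun a ha => cm1 a ha b hb
      exact Subgroup.mem_centralizer_iff.1 (h2 hb) a ha) h1
    obtain ⟨gp, hgp, gm, hgm, e2⟩ := mem_sup_of_cm (K := X pp) (L := X mm) cpm hg'
    have hcs : ∀ u ∈ X rs, d * u = u * d := fun u hu => by
      have k1 : w⁻¹ * u = u * w⁻¹ := by
        rw [inv_mul_eq_iff_eq_mul, ← mul_assoc, hws u hu, mul_inv_cancel_right]
      rw [hd, mul_assoc, k1, ← mul_assoc, hvs u hu, mul_assoc]
    have hcb : ∀ u ∈ X rb, d * u = u * d := fun u hu => by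
      have k1 : w⁻¹ * u = u * w⁻¹ := by
        rw [inv_mul_eq_iff_eq_mul, ← mul_assoc, hwb u hu, mul_inv_cancel_right]
      rw [hd, mul_assoc, k1, ← mul_assoc, hvb u hu, mul_assoc]
    have hg'1 : g' = 1 := by
      obtain ⟨u, hu, hu1⟩ := S.ex Rs
      have h3 : g' * u = u * g' := by
        have h4 := hcs u hu
        have k1 : g1 * u = u * g1 := S.cent rs_mem R1 (by decide) hg1 hu
        rw [e1] at h4
        have h5 : g1 * (g' * u) = g1 * (u * g') := by
          rw [← mul_assoc, h4, ← mul_assoc, ← mul_assoc, k1]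
        exact mul_left_cancel h5
      obtain ⟨b, hb, b', hb', hn⟩ := S.exists_n Rs hu hu1
      have h4 : ∀ a ∈ X (-rs), g' * a = a * g' := by
        intro a ha
        have k1 : gp * a = a * gp := S.cent (S.neg_mem rs_mem) Rp (by decide) hgp ha
        have k2 : gm * a = a * gm := S.cent (S.neg_mem rs_mem) Rm (by decide) hgm ha
        rw [e2, mul_assoc, k2, ← mul_assoc, k1, mul_assoc]
      have h5 : g' * (b * u * b') = (b * u * b') * g' := by
        calc g' * (b * u * b') = (g' * b) * u * b' := by group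
          _ = b * (g' * u) * b' := by rw [h4 b hb]; group
          _ = b * u * (g' * b') := by rw [h3]; group
          _ = _ := by rw [h4 b' hb']; group
      have h6 : g' ∈ X ry ⊔ X rx := by
        have h7 : (b * u * b') * g' * (b * u * b')⁻¹ ∈ cj (b * u * b') (X pp ⊔ X mm) :=
          conj_mem_cj.2 hg'
        rw [cj_sup, hn pp ry Rp (refl_eq Rs (-1) (by decide) (by decide) (by decide)),
          hn mm rx Rm (refl_eq Rs (-1) (by decide) (by decide) (by decide)), ← h5, mul_inv_cancel_right] at h7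
        exact h7
      have cxy : ∀ a ∈ X ry, ∀ b ∈ X rx, a * b = b * a := fun a ha b hb => S.cent rx_mem Ry (by decide) ha hb
      obtain ⟨k1, hk1, k2, hk2, e3⟩ := mem_sup_of_cm cxy h6
      have h8 : z ry * g' * z ry = g' := by
        rw [e3, S.zdiv ry_mem, S.zself ry_mem hk1, S.zcent ry_mem Rx (by decide) hk2]
      have h9 : z ry * g' * z ry = g'⁻¹ := by
        rw [e2, S.zdiv ry_mem, S.zinv ry_mem Rp (by decide) (by decide) (by decide) hgp,
          S.zinv ry_mem Rm (by decide) (by decide) (by decide) hgm, cpm gp hgp gm hgm, mul_inv_rev]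
      have hgV : g' ∈ VV cs (isCartan 3) X rr := by
        rw [e2]
        exact mul_mem (S.mem_VV rr_mem Rp (by decide) hgp) (S.mem_VV rr_mem Rm (by decide) hgm)
      have h10 : g' * g' ∈ (⊥ : Subgroup Y) := by
        rw [Subgroup.mem_bot, ← mul_inv_cancel g', ← h9, h8]
      exact Subgroup.mem_bot.1 (S.sq_eq_one hgV h10)
    rw [hg'1, mul_one] at e1
    rw [e1] at hcb ⊢
    exact S.short hg1 hcb
  have hwv : w = v := by
    rw [mul_inv_eq_one] at hB
    exact hB.symm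
  rw [hwv] at hA
  exact S.sq_eq_one hv hA

/-- Elements commuting with `X (e₁+e₂)`, `X (e₁-e₂)`, `X e₃`. -/
theorem comm_mem_ry {w : Y} (h1 : ∀ u ∈ X rr, w * u = u * w) (h2 : ∀ u ∈ X rs, w * u = u * w)
    (h3 : ∀ u ∈ X rb, w * u = u * w) : w * z rr * w⁻¹ * z rr ∈ X ry := by
  have : Fact p.Prime := ⟨S.prime⟩
  have hGG : ∀ g : Y, g ∈ GG cs (isCartan 3) T X := by
    intro g
    have h4 : G1 cs (isCartan 3) X ≤ GG cs (isCartan 3) T X := le_sup_right
    rw [S.gen] at h4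
    exact h4 (Subgroup.mem_top g)
  have hN : ∀ r : Fin 3 → ℤ, r ∈ RB 3 → (∀ u ∈ X r, w * u = u * w) → w ∈ Subgroup.normalizer (Z r : Set Y) := by
    intro r hr hc
    rw [← S.XZ r hr]
    refine Subgroup.mem_normalizer_iff.2 fun u => ⟨fun hu => ?_, fun hu => ?_⟩
    · rw [hc u hu, mul_inv_cancel_right]; exact hu
    · have h4 := hc _ hu
      have h5 : u = w⁻¹ * (w * u * w⁻¹) * w := by group
      rw [h5]
      have h6 : w⁻¹ * (w * u * w⁻¹) * w = w * u * w⁻¹ := by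
        rw [mul_assoc, ← h4, inv_mul_cancel_left]
      rw [h6]; exact hu
  have e1 := comm_mem_VV S.C rr_mem (hGG w) (hN rr rr_mem h1)
  have e2 := comm_mem_VV S.C rs_mem (hGG w) (hN rs rs_mem h2)
  rw [S.zi rr rr_mem] at e1
  rw [S.zi rs rs_mem] at e2
  have hc := S.cen
  have e3 : w * z rr * w⁻¹ * z rr = w * z rs * w⁻¹ * z rs := by
    have k1 : z rr = (z rr * z rs) * z rs := by rw [mul_assoc, S.zz rs rs_mem, mul_one]
    have k2 : (z rr * z rs) * (z rr * z rs) = 1 := by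
      rw [hc (z rr * z rs)]
      have := z_comm S.C rr_mem rs_mem
      calc z rr * z rs * (z rr * z rs) = z rr * (z rs * z rr) * z rs := by group
        _ = (z rr * z rr) * (z rs * z rs) := by rw [← this]; group
        _ = 1 := by rw [S.zz rr rr_mem, S.zz rs rs_mem, mul_one]
    calc w * z rr * w⁻¹ * z rr = w * ((z rr * z rs) * z rs) * w⁻¹ * ((z rr * z rs) * z rs) := by rw [← k1]
      _ = (w * (z rr * z rs)) * (z rs * w⁻¹) * (z rr * z rs) * z rs := by group
      _ = (z rr * z rs) * (w * (z rs * w⁻¹) * (z rr * z rs)) * z rs := by rw [← hc w]; group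
      _ = ((z rr * z rs) * (z rr * z rs)) * (w * (z rs * w⁻¹)) * z rs := by rw [← hc (w * (z rs * w⁻¹))]; group
      _ = _ := by rw [k2]; group
  rw [← e3] at e2
  refine S.mem_ry e1 e2 ?_ ?_ ?_
  · intro u hu
    have k1 := h2 u hu
    have k2 : z rr * u = u * z rr := (S.zcomm rr_mem (S.zcent rr_mem (S.rB rs_mem) (by decide) hu)).symm
    have k3 : w⁻¹ * u = u * w⁻¹ := by
      rw [inv_mul_eq_iff_eq_mul, ← mul_assoc, k1, mul_inv_cancel_right]
    calc w * z rr * w⁻¹ * z rr * u = w * z rr * w⁻¹ * (z rr * u) := by group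
      _ = w * z rr * (w⁻¹ * u) * z rr := by rw [k2]; group
      _ = w * (z rr * u) * w⁻¹ * z rr := by rw [k3]; group
      _ = (w * u) * z rr * w⁻¹ * z rr := by rw [k2]; group
      _ = _ := by rw [k1]; group
  · intro u hu
    have k1 := h3 u hu
    have k2 : z rr * u = u * z rr := (S.zcomm rr_mem (S.zcent rr_mem (S.rC rb_mem) (by decide) hu)).symm
    have k3 : w⁻¹ * u = u * w⁻¹ := by
      rw [inv_mul_eq_iff_eq_mul, ← mul_assoc, k1, mul_inv_cancel_right]
    calc w * z rr * w⁻¹ * z rr * u = w * z rr * w⁻¹ * (z rr * u) := by group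
      _ = w * z rr * (w⁻¹ * u) * z rr := by rw [k2]; group
      _ = w * (z rr * u) * w⁻¹ * z rr := by rw [k3]; group
      _ = (w * u) * z rr * w⁻¹ * z rr := by rw [k2]; group
      _ = _ := by rw [k1]; group
  · calc z rr * (w * z rr * w⁻¹ * z rr) * z rr = z rr * w * z rr * w⁻¹ * (z rr * z rr) := by group
      _ = z rr * w * z rr * w⁻¹ := by rw [S.zz rr rr_mem, mul_one]
      _ = (z rr)⁻¹ * w * (z rr)⁻¹ * w⁻¹ := by rw [S.zi rr rr_mem]
      _ = _ := by group

/-- **An endomorphism fixing `z (e₁+e₂)`, whose image on `X (e₁+e₂)`, `X (e₁-e₂)`, `X e₃` contains these groups, maps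
`X (e₁+e₃)` into itself.** -/
theorem map_ry (f : Y →* Y) (hz : f (z rr) = z rr) (h1 : ∀ u ∈ X rr, ∃ v ∈ X rr, f v = u)
    (h2 : ∀ u ∈ X rs, ∃ v ∈ X rs, f v = u) (h3 : ∀ u ∈ X rb, ∃ v ∈ X rb, f v = u) {x : Y} (hx : x ∈ X ry) :
    f x ∈ X ry := by
  have Ry := S.rB ry_mem
  -- `x = u * u`
  obtain ⟨u, hu, e⟩ : ∃ u ∈ X ry, u * u = x := by
    have : Fact p.Prime := ⟨S.prime⟩
    obtain ⟨k, hk⟩ := odd_of_mem_X S.C S.odd Ry hx
    refine ⟨x ^ (k + 1), pow_mem hx _, ?_⟩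
    rw [← pow_add]
    have h4 : k + 1 + (k + 1) = orderOf x + 1 := by omega
    rw [h4, pow_succ, pow_orderOf_eq_one, one_mul]
  have h4 := S.comm_mem_ry (w := f u) (fun a ha => by
    obtain ⟨b, hb, rfl⟩ := h1 a ha
    rw [← map_mul, S.cent rr_mem Ry (by decide) hu hb, map_mul]) (fun a ha => by
    obtain ⟨b, hb, rfl⟩ := h2 a ha
    rw [← map_mul, S.cent rs_mem Ry (by decide) hu hb, map_mul]) (fun a ha => by
    obtain ⟨b, hb, rfl⟩ := h3 a ha
    rw [← map_mul, ← S.cent ry_mem (S.rC rb_mem) (by decide) hb hu, map_mul])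
  have h5 : f u * z rr * (f u)⁻¹ * z rr = f x := by
    have h6 := S.zinv rr_mem Ry (by decide) (by decide) (by decide) (inv_mem hu)
    rw [inv_inv] at h6
    calc f u * z rr * (f u)⁻¹ * z rr = f (u * (z rr * u⁻¹ * z rr)) := by
          simp only [map_mul, map_inv, hz]; group
      _ = f x := by rw [h6, e]
  rw [← h5]
  exact h4

end Std

end Cfsg.Agent.OddHalf.NI.AutB3Std

end

-- merged: Cfsg.Agent.OddHalf.NI.AutB3
section

/-!
# (K5) : automorphisms of a chart group of type `B₃` trivial on `A`, `B`, `A'` (node NI)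

* `exists_torus` : the torus of `K ≅ SL₂(F)` normalising a given `P ≤ K` of order `|F|`;
* `eq_one_of_fix` : an automorphism trivial on `⟨X (±(e₁+e₂))⟩`, `⟨X (±(e₁-e₂))⟩`, `⟨X (±e₃)⟩` and `X (e₁+e₃)` is trivial;
* `aut_eq` : `S : Std ...`, `⟨X (±(e₁+e₂))⟩ ≅ SL₂(F)`, `|F|` odd (3 included): `α` trivial on `⟨X (±(e₁+e₂))⟩`,
  `⟨X (±(e₁-e₂))⟩`, `⟨X (±e₃)⟩` is `1` or the conjugation by `z (e₁+e₂)`; `aut_sq : α ^ 2 = 1`.
-/

set_option autoImplicit false
set_option linter.unusedSectionVars false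
set_option linter.dupNamespace false

namespace Cfsg.Agent.OddHalf.NI.AutB3

open CoxeterSystem Cfsg.Agent.ChevalleyStructure.CoxeterGeom Cfsg.Agent.Tits.Roots Cfsg.Agent.Tits.Core
  Cfsg.Agent.Tits.RootComb Cfsg.Agent.Nodes.Comb Cfsg.Agent.Nodes.Reps Cfsg.Agent.Nodes.BNOf
  Cfsg.Agent.Nodes.RGDLib Cfsg.Agent.Nodes.Chart Cfsg.Agent.Nodes.Coroot Cfsg.Agent.Nodes.Perp
  Cfsg.Agent.Nodes.ZRel Cfsg.Agent.Nodes.TypeC Cfsg.Agent.Nodes.TypeCForm Cfsg.Agent.Nodes.KindBC
  Cfsg.Agent.Nodes.ShortSum Cfsg.Agent.Nodes.ChartLoc Cfsg.Agent.Nodes.Bruhat Cfsg.Agent.Nodes.LeviDec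
  Cfsg.Agent.OddHalf.NI.AutB3Comb Cfsg.Agent.OddHalf.NI.AutB3Std
open Cfsg.Agent.Lib.SL2Mat
open scoped commutatorElement

section Torus

variable {Y F : Type*} [Group Y] [Field F] [Fintype F]

theorem dg_up (l : Fˣ) (b : F) : dg (l : F) l.ne_zero * up b * (dg (l : F) l.ne_zero)⁻¹ = up (l * l * b) := by
  have h0 := l.ne_zero
  rw [mul_inv_eq_iff_eq_mul]
  refine ext_ent ?_ ?_ ?_ ?_ <;> simp only [ent_mul, dg_00, dg_01, dg_10, dg_11, up_00, up_01, up_10, up_11] <;>
    field_simp <;> ring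

theorem dg_mul (l m : Fˣ) : dg (l : F) l.ne_zero * dg (m : F) m.ne_zero = dg ((l * m : Fˣ) : F) (l * m).ne_zero := by
  refine ext_ent ?_ ?_ ?_ ?_ <;> simp only [ent_mul, dg_00, dg_01, dg_10, dg_11, Units.val_mul]
  · ring
  · ring
  · ring
  · rw [mul_inv]; ring

theorem dg_one : dg ((1 : Fˣ) : F) (1 : Fˣ).ne_zero = 1 := by
  refine ext_ent ?_ ?_ ?_ ?_ <;> simp

/-- The torus as a homomorphism. -/
def dgh : Fˣ →* Matrix.SpecialLinearGroup (Fin 2) F where
  toFun l := dg (l : F) l.ne_zero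
  map_one' := dg_one
  map_mul' l m := (dg_mul l m).symm

/-- The torus of `K ≅ SL₂(F)` normalising `P`. -/
theorem exists_torus {K P : Subgroup Y} (e : Matrix.SpecialLinearGroup (Fin 2) F ≃* K) (hP : P ≤ K)
    (hc : Nat.card P = Fintype.card F) : ∃ t : Fˣ →* Y, Function.Injective t ∧ (∀ l, t l ∈ K) ∧
      (∀ l, ∀ g ∈ P, t l * g * (t l)⁻¹ ∈ P) ∧ ∀ l, ∀ g ∈ P, g ≠ 1 → t l * g = g * t l → l * l = 1 := by
  obtain ⟨k, hk, hkP⟩ := Cfsg.Agent.Cit.ParabSL2.exists_conj_root e hP hc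
  let t : Fˣ →* Y := (MulAut.conj k).toMonoidHom.comp (K.subtype.comp (e.toMonoidHom.comp dgh))
  have ht : ∀ l, t l = k * (e (dg (l : F) l.ne_zero) : Y) * k⁻¹ := fun l => rfl
  have hmem : ∀ g ∈ P, ∃ b : F, g = k * (e (up b) : Y) * k⁻¹ := by
    intro g hg
    rw [← hkP, Cfsg.Agent.Cit.mem_cj] at hg
    obtain ⟨b, hb⟩ := Cfsg.Agent.Cit.ParabSL2.mem_root.1 hg
    exact ⟨b, by rw [hb]; group⟩
  have hcj : ∀ l (b : F), t l * (k * (e (up b) : Y) * k⁻¹) * (t l)⁻¹ = k * (e (up (l * l * b)) : Y) * k⁻¹ := by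
    intro l b
    rw [← dg_up, map_mul, map_mul, map_inv, Subgroup.coe_mul, Subgroup.coe_mul, Subgroup.coe_inv, ht]
    group
  refine ⟨t, ?_, fun l => ?_, fun l g hg => ?_, fun l g hg hg1 hcm => ?_⟩
  · rw [injective_iff_map_eq_one]
    intro l hl
    rw [ht] at hl
    have h1 : (e (dg (l : F) l.ne_zero) : Y) = 1 := by
      have h2 : (e (dg (l : F) l.ne_zero) : Y) = k⁻¹ * (k * (e (dg (l : F) l.ne_zero) : Y) * k⁻¹) * k := by group
      rw [h2, hl]; group
    have h3 : dg (l : F) l.ne_zero = 1 := e.injective (Subtype.ext (by rw [h1, map_one]; rfl))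
    have h4 := congrArg (fun g => ent g 0 0) h3
    simp only [dg_00, ent_one_00] at h4
    exact Units.ext h4
  · rw [ht]
    exact mul_mem (mul_mem hk (e _).2) (inv_mem hk)
  · obtain ⟨b, rfl⟩ := hmem g hg
    rw [hcj, ← hkP, Cfsg.Agent.Cit.mem_cj]
    refine Cfsg.Agent.Cit.ParabSL2.mem_root.2 ⟨l * l * b, ?_⟩
    group
  · obtain ⟨b, rfl⟩ := hmem g hg
    have h1 := hcj l b
    rw [hcm, mul_inv_cancel_right] at h1
    have h2 : (e (up b) : Y) = e (up (l * l * b)) := mul_left_cancel (mul_right_cancel h1)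
    have h3 := up_inj (e.injective (Subtype.ext h2))
    have hb : b ≠ 0 := by
      rintro rfl
      apply hg1
      rw [up_zero, map_one]; simp
    have h4 : (l : F) * l = 1 := by
      have : 1 * b = (l * l : F) * b := by rw [one_mul]; exact h3
      exact (mul_right_cancel₀ hb this).symm
    exact Units.ext (by rw [Units.val_mul, h4, Units.val_one])

/-- Two involutions of `K ≅ SL₂(F)` are equal. -/
theorem inv_unique {K : Subgroup Y} (e : Matrix.SpecialLinearGroup (Fin 2) F ≃* K) (hF : Odd (Fintype.card F))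
    {a b : Y} (ha : a ∈ K) (hb : b ∈ K) (ha2 : a * a = 1) (hb2 : b * b = 1) (ha1 : a ≠ 1) (hb1 : b ≠ 1) : a = b := by
  have key : ∀ a (ha : a ∈ K), a * a = 1 → a ≠ 1 → e.symm ⟨a, ha⟩ = -1 := by
    intro a ha h2 h1
    refine Cfsg.Agent.TwoFusion.QuatCoverSL.eq_neg_one_of_orderOf_two hF _ ?_
    refine orderOf_eq_prime ?_ ?_
    · rw [← map_pow, pow_two]
      have : (⟨a, ha⟩ : K) * ⟨a, ha⟩ = 1 := Subtype.ext h2
      rw [this, map_one]
    · intro h
      rw [MulEquiv.map_eq_one_iff] at h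
      exact h1 (congrArg Subtype.val h)
  have h1 := (key a ha ha2 ha1).trans (key b hb hb2 hb1).symm
  exact congrArg Subtype.val (e.symm.injective h1)

end Torus

variable {W Y : Type*} [Group W] [Fintype W] [Group Y] [Finite Y]
  {cs : CoxeterSystem (CoxeterMatrix.B 3) W} {p : ℕ} {T : Subgroup Y} {nn : Fin 3 → Y}
  {X Z : (Fin 3 → ℤ) → Subgroup Y} {z : (Fin 3 → ℤ) → Y} (S : Std cs p T nn X Z z)

include S

/-- A subgroup containing the root groups of `± (e₁-e₂)`, `± e₃`, `± (e₂-e₃)` is the whole group. -/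
theorem eq_top {P : Subgroup Y} (h1 : X rs ≤ P) (h1' : X (-rs) ≤ P) (h2 : X mm ≤ P) (h2' : X (-mm) ≤ P)
    (h3 : X rb ≤ P) (h3' : X (-rb) ≤ P) : P = ⊤ := by
  rw [eq_top_iff, ← S.gen]
  refine RGD.Sup_le fun x hx => ?_
  refine Cfsg.Agent.Nodes.GenBase.gen_of_cartan cs (isCartan 3) (β := fun i => sr i)
    (fun i => isRoot_sr cs (isCartan 3) i) (fun i j => ?_) S.C.rgd (fun j => ?_) x hx
  · rw [cpr_sr]
    unfold pairing
    rw [Finset.sum_eq_single j]
    · rw [sr_self, mul_one]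
    · intro k _ hk
      rw [sr_ne hk, mul_zero]
    · intro h0; exact absurd (Finset.mem_univ _) h0
  · fin_cases j
    · change X (sr 0) ≤ P ∧ X (-sr 0) ≤ P
      rw [sr0]; exact ⟨h1, h1'⟩
    · change X (sr 1) ≤ P ∧ X (-sr 1) ≤ P
      rw [sr1]; exact ⟨h2, h2'⟩
    · change X (sr 2) ≤ P ∧ X (-sr 2) ≤ P
      rw [sr2]; exact ⟨h3, h3'⟩

variable {F : Type*} [Field F] [Fintype F]

/-- The element `n` of `⟨X (±(e₁-e₂))⟩ ⟨X (±e₃)⟩` with `n (X (e₁+e₃)) n⁻¹ = X (e₂-e₃)`. -/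
theorem exists_nm : ∃ m₁ ∈ X rs ⊔ X (-rs), ∃ m₂ ∈ X rb ⊔ X (-rb), cj (m₁ * m₂) (X ry) = X mm := by
  have Rs := S.rB rs_mem
  have Ry := S.rB ry_mem
  have Rx := S.rB rx_mem
  have Rb := S.rC rb_mem
  obtain ⟨u, hu, hu1⟩ := S.ex Rb
  obtain ⟨a, ha, a', ha', h1⟩ := S.exists_n Rb hu hu1
  obtain ⟨v, hv, hv1⟩ := S.ex Rs
  obtain ⟨b, hb, b', hb', h2⟩ := S.exists_n Rs hv hv1
  refine ⟨b * v * b', ?_, a * u * a', ?_, ?_⟩
  · exact mul_mem (mul_mem (le_sup_right (a := X rs) hb) (le_sup_left (a := X rs) hv)) (le_sup_right (a := X rs) hb')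
  · exact mul_mem (mul_mem (le_sup_right (a := X rb) ha) (le_sup_left (a := X rb) hu)) (le_sup_right (a := X rb) ha')
  · rw [cj_mul, h1 ry rx Ry (refl_eq Rb 1 (by decide) (by decide) (by decide)),
      h2 rx mm Rx (refl_eq Rs 1 (by decide) (by decide) (by decide))]

/-- Generation. -/
theorem eq_one_of_fix (α : MulAut Y)
    (hB : ∀ g ∈ X rr ⊔ X (-rr), α g = g) (hA' : ∀ g ∈ X rs ⊔ X (-rs), α g = g)
    (hA : ∀ g ∈ X rb ⊔ X (-rb), α g = g) (hy : ∀ g ∈ X ry, α g = g) : α = 1 := by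
  have Rr := S.rB rr_mem
  have Ry := S.rB ry_mem
  let P : Subgroup Y := α.toMonoidHom.eqLocus (MonoidHom.id Y)
  have hP : ∀ g, g ∈ P ↔ α g = g := fun g => Iff.rfl
  obtain ⟨m₁, hm₁, m₂, hm₂, hn⟩ := exists_nm S
  have hnP : m₁ * m₂ ∈ P := mul_mem ((hP _).2 (hA' _ hm₁)) ((hP _).2 (hA _ hm₂))
  have hryP : X ry ≤ P := fun g hg => (hP g).2 (hy g hg)
  have htop : P = ⊤ := by
    refine eq_top S (fun g hg => (hP g).2 (hA' g (le_sup_left (a := X rs) hg)))
      (fun g hg => (hP g).2 (hA' g (le_sup_right (a := X rs) hg))) ?_ ?_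
      (fun g hg => (hP g).2 (hA g (le_sup_left (a := X rb) hg)))
      (fun g hg => (hP g).2 (hA g (le_sup_right (a := X rb) hg)))
    · intro g hg
      rw [← hn, mem_cj] at hg
      have h1 : g = (m₁ * m₂) * ((m₁ * m₂)⁻¹ * g * (m₁ * m₂)) * (m₁ * m₂)⁻¹ := by group
      rw [h1]
      exact mul_mem (mul_mem hnP (hryP hg)) (inv_mem hnP)
    · obtain ⟨u, hu, hu1⟩ := S.ex Rr
      obtain ⟨a, ha, a', ha', h1⟩ := S.exists_n Rr hu hu1
      have m1 : a * u * a' ∈ X rr ⊔ X (-rr) :=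
        mul_mem (mul_mem (le_sup_right (a := X rr) ha) (le_sup_left (a := X rr) hu)) (le_sup_right (a := X rr) ha')
      have m2 : a * u * a' ∈ P := (hP _).2 (hB _ m1)
      intro g hg
      rw [← h1 ry (-mm) Ry (refl_eq Rr 1 (by decide) (by decide) (by decide)), mem_cj] at hg
      have h3 : g = (a * u * a') * ((a * u * a')⁻¹ * g * (a * u * a')) * (a * u * a')⁻¹ := by group
      rw [h3]
      exact mul_mem (mul_mem m2 (hryP hg)) (inv_mem m2)
  ext g
  have h1 : g ∈ P := htop ▸ Subgroup.mem_top g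
  exact (hP g).1 h1

/-- **(K5) in standard coordinates.** -/
theorem aut_eq (hF : Odd (Fintype.card F)) (e : Matrix.SpecialLinearGroup (Fin 2) F ≃* ↥(X rr ⊔ X (-rr)))
    (hcr : Nat.card (X rr) = Fintype.card F) (hcy : Nat.card (X ry) = Fintype.card F) (α : MulAut Y)
    (hB : ∀ g ∈ X rr ⊔ X (-rr), α g = g) (hA' : ∀ g ∈ X rs ⊔ X (-rs), α g = g)
    (hA : ∀ g ∈ X rb ⊔ X (-rb), α g = g) : α = 1 ∨ α = MulAut.conj (z rr) := by
  have Rr := S.rB rr_mem
  have Rs := S.rB rs_mem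
  have Ry := S.rB ry_mem
  have Rx := S.rB rx_mem
  have Rp := S.rB pp_mem
  have Rm := S.rB mm_mem
  have Rb := S.rC rb_mem
  have hzB : z rr ∈ X rr ⊔ X (-rr) := by
    rw [S.XZ rr rr_mem, S.XZ (-rr) (S.neg_mem rr_mem)]
    exact S.C.z_mem rr rr_mem
  obtain ⟨x0, hx0, hx01⟩ := S.ex Ry
  have hz1 : z rr ≠ 1 := by
    intro h0
    have h1 := S.zinv rr_mem Ry (by decide) (by decide) (by decide) hx0
    rw [h0, one_mul, mul_one] at h1
    exact hx01 (S.eq_one Ry hx0 h1)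
  -- `X (± e₁ ± e₂)` etc. commute
  have cBA' : ∀ g ∈ X rr ⊔ X (-rr), ∀ u ∈ X rs ⊔ X (-rs), g * u = u * g := by
    intro g hg
    have h1 : X rs ⊔ X (-rs) ≤ Subgroup.centralizer {g} := by
      have h2 : ∀ c ∈ RB 3, q c rr = 0 → X c ≤ Subgroup.centralizer {g} := by
        intro c hc hq u hu
        rw [Subgroup.mem_centralizer_singleton_iff]
        have h3 : X rr ⊔ X (-rr) ≤ Subgroup.centralizer {u} := by
          refine sup_le (fun a ha => ?_) (fun a ha => ?_)
          · rw [Subgroup.mem_centralizer_singleton_iff]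
            exact (S.cent rr_mem (S.rB hc) hq.ge hu ha).symm
          · rw [Subgroup.mem_centralizer_singleton_iff]
            refine (S.cent (S.neg_mem rr_mem) (S.rB hc) ?_ hu ha).symm
            have : q c (-rr) = - q c rr := by unfold q; simp only [Pi.neg_apply]; ring
            rw [this, hq, neg_zero]
        exact (Subgroup.mem_centralizer_singleton_iff.1 (h3 hg)).symm
      exact sup_le (h2 rs rs_mem (by decide)) (h2 (-rs) (S.neg_mem rs_mem) (by decide))
    intro u hu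
    exact (Subgroup.mem_centralizer_singleton_iff.1 (h1 hu)).symm
  have cBA : ∀ g ∈ X rr ⊔ X (-rr), ∀ u ∈ X rb ⊔ X (-rb), g * u = u * g := by
    intro g hg
    have h1 : X rb ⊔ X (-rb) ≤ Subgroup.centralizer {g} := by
      have h2 : ∀ c, IsRoot cs (isCartan 3) c → q c rr = 0 → X c ≤ Subgroup.centralizer {g} := by
        intro c hc hq u hu
        rw [Subgroup.mem_centralizer_singleton_iff]
        have h3 : X rr ⊔ X (-rr) ≤ Subgroup.centralizer {u} := by
          refine sup_le (fun a ha => ?_) (fun a ha => ?_)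
          · rw [Subgroup.mem_centralizer_singleton_iff]
            exact (S.cent rr_mem hc hq.ge hu ha).symm
          · rw [Subgroup.mem_centralizer_singleton_iff]
            refine (S.cent (S.neg_mem rr_mem) hc ?_ hu ha).symm
            have : q c (-rr) = - q c rr := by unfold q; simp only [Pi.neg_apply]; ring
            rw [this, hq, neg_zero]
        exact (Subgroup.mem_centralizer_singleton_iff.1 (h3 hg)).symm
      exact sup_le (h2 rb Rb (by decide)) (h2 (-rb) Rb.neg (by decide))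
    intro u hu
    exact (Subgroup.mem_centralizer_singleton_iff.1 (h1 hu)).symm
  -- `α (X ry) ≤ X ry`
  have hαy : ∀ x ∈ X ry, α x ∈ X ry := fun x hx =>
    S.map_ry α.toMonoidHom (hB _ hzB) (fun u hu => ⟨u, hu, hB u (le_sup_left (a := X rr) hu)⟩)
      (fun u hu => ⟨u, hu, hA' u (le_sup_left (a := X rs) hu)⟩)
      (fun u hu => ⟨u, hu, hA u (le_sup_left (a := X rb) hu)⟩) hx
  obtain ⟨t, htinj, htK, htN, htc⟩ := exists_torus (P := X rr) e le_sup_left hcr
  have hty : ∀ l, ∀ x ∈ X ry, t l * x * (t l)⁻¹ ∈ X ry := fun l x hx => by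
    refine S.map_ry (MulAut.conj (t l)).toMonoidHom ?_ ?_ ?_ ?_ hx
    · change t l * z rr * (t l)⁻¹ = z rr
      have h1 : t l ∈ Z rr ⊔ Z (-rr) := by
        rw [← S.XZ rr rr_mem, ← S.XZ (-rr) (S.neg_mem rr_mem)]; exact htK l
      rw [cls_commute_z S.C rr_mem h1, mul_inv_cancel_right]
    · intro u hu
      refine ⟨t l⁻¹ * u * (t l⁻¹)⁻¹, htN l⁻¹ u hu, ?_⟩
      change t l * (t l⁻¹ * u * (t l⁻¹)⁻¹) * (t l)⁻¹ = u
      rw [map_inv]; group
    · intro u hu
      refine ⟨u, hu, ?_⟩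
      change t l * u * (t l)⁻¹ = u
      rw [cBA' _ (htK l) u (le_sup_left (a := X rs) hu), mul_inv_cancel_right]
    · intro u hu
      refine ⟨u, hu, ?_⟩
      change t l * u * (t l)⁻¹ = u
      rw [cBA _ (htK l) u (le_sup_left (a := X rb) hu), mul_inv_cancel_right]
  -- the element `n ∈ A' A` with `n (X ry) n⁻¹ = X mm`
  obtain ⟨n, hnA, hnB, hn⟩ : ∃ n : Y, α n = n ∧ (∀ g ∈ X rr ⊔ X (-rr), g * n = n * g) ∧
      cj n (X ry) = X mm := by
    obtain ⟨m₁, hm₁, m₂, hm₂, hn⟩ := exists_nm S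
    refine ⟨m₁ * m₂, by rw [map_mul, hA' _ hm₁, hA _ hm₂], fun g hg => ?_, hn⟩
    calc g * (m₁ * m₂) = (g * m₁) * m₂ := by group
      _ = m₁ * (g * m₂) := by rw [cBA' g hg _ hm₁]; group
      _ = _ := by rw [cBA g hg _ hm₂]; group
  -- commutators
  have hk : ∀ x ∈ X ry, x ≠ 1 → ⁅x, n * x * n⁻¹⁆ ∈ X rr ∧ ⁅x, n * x * n⁻¹⁆ ≠ 1 := by
    intro x hx hx1
    have hw : n * x * n⁻¹ ∈ X mm := by rw [← hn]; exact conj_mem_cj.2 hx
    have hw1 : n * x * n⁻¹ ≠ 1 := by
      intro h0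
      apply hx1
      have h1 : x = n⁻¹ * (n * x * n⁻¹) * n := by group
      rw [h1, h0]; group
    constructor
    · rw [S.XZ rr rr_mem]
      have : Fact p.Prime := ⟨S.prime⟩
      exact commutator_VV_le S.C S.odd rr_mem (Subgroup.commutator_mem_commutator
        (S.mem_VV rr_mem Ry (by decide) hx) (S.mem_VV rr_mem Rm (by decide) hw))
    · intro h0
      refine hx1 (S.kill Ry Rm (refl_eq Rm (-1) (by decide) (by decide) (by decide) : _ = rr) Rr (by decide) hx hw hw1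
        (commutatorElement_eq_one_iff_mul_comm.1 h0) fun v hv => ?_)
      exact S.cent (S.neg_mem mm_mem) Ry (by decide) hx hv
  -- `t l` commuting with a nontrivial element of `X rr`
  have ht2 : ∀ l, l * l = 1 → t l = 1 ∨ t l = z rr := by
    intro l hl
    by_cases h1 : t l = 1
    · exact Or.inl h1
    · refine Or.inr (inv_unique e hF (htK l) hzB ?_ (S.zz rr rr_mem) h1 hz1)
      rw [← map_mul, hl, map_one]
  have ht3 : ∀ l m : Fˣ, t l * t m = t m * t l := fun l m => by rw [← map_mul, ← map_mul, mul_comm]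
  -- regularity
  have hreg : ∀ l, ∀ x ∈ X ry, x ≠ 1 → t l * x = x * t l → t l = 1 := by
    intro l x hx hx1 hcm
    obtain ⟨h1, h2⟩ := hk x hx hx1
    have h3 : t l * (n * x * n⁻¹) = (n * x * n⁻¹) * t l := by
      have h4 := hnB _ (htK l)
      have h5 : t l * n⁻¹ = n⁻¹ * t l := by
        rw [eq_inv_mul_iff_mul_eq, ← mul_assoc, ← h4, mul_inv_cancel_right]
      calc t l * (n * x * n⁻¹) = (t l * n) * x * n⁻¹ := by group
        _ = n * (t l * x) * n⁻¹ := by rw [h4]; group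
        _ = n * x * (t l * n⁻¹) := by rw [hcm]; group
        _ = _ := by rw [h5]; group
    have h4 : Commute (t l) ⁅x, n * x * n⁻¹⁆ := by
      rw [commutatorElement_def]
      have c1 : Commute (t l) x := hcm
      have c2 : Commute (t l) (n * x * n⁻¹) := h3
      exact ((c1.mul_right c2).mul_right c1.inv_right).mul_right c2.inv_right
    rcases ht2 l (htc l _ h1 h2 h4.eq) with h5 | h5
    · exact h5
    · exfalso
      rw [h5] at hcm
      have h6 := S.zinv rr_mem Ry (by decide) (by decide) (by decide) hx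
      rw [hcm, mul_assoc, S.zz rr rr_mem, mul_one] at h6
      exact hx1 (S.eq_one Ry hx h6)
  -- transitivity
  have htr : ∀ x ∈ X ry, x ≠ 1 → ∃ l, t l * x0 * (t l)⁻¹ = x := by
    classical
    let f : F → X ry := fun a => if h : a = 0 then 1 else ⟨t (Units.mk0 a h) * x0 * (t (Units.mk0 a h))⁻¹,
      hty _ x0 hx0⟩
    have hf0 : f 0 = 1 := dif_pos rfl
    have hf : ∀ a (h : a ≠ 0), (f a : Y) = t (Units.mk0 a h) * x0 * (t (Units.mk0 a h))⁻¹ := by
      intro a h
      simp only [f, dif_neg h]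
    have hne : ∀ a (_ : a ≠ 0), (f a : Y) ≠ 1 := by
      intro a h h0
      rw [hf a h, mul_inv_eq_one] at h0
      exact hx01 (mul_eq_left.1 h0)
    have hinj : Function.Injective f := by
      intro a b hab
      by_cases ha : a = 0
      · by_cases hb : b = 0
        · rw [ha, hb]
        · exfalso
          apply hne b hb
          rw [← hab, ha, hf0]; rfl
      · by_cases hb : b = 0
        · exfalso
          apply hne a ha
          rw [hab, hb, hf0]; rfl
        · have h1 : t (Units.mk0 a ha) * x0 * (t (Units.mk0 a ha))⁻¹ =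
              t (Units.mk0 b hb) * x0 * (t (Units.mk0 b hb))⁻¹ := by
            rw [← hf a ha, ← hf b hb, hab]
          have h2 : t ((Units.mk0 b hb)⁻¹ * Units.mk0 a ha) * x0 = x0 * t ((Units.mk0 b hb)⁻¹ * Units.mk0 a ha) := by
            rw [map_mul, map_inv]
            have h3 : t (Units.mk0 a ha) * x0 =
                t (Units.mk0 b hb) * x0 * (t (Units.mk0 b hb))⁻¹ * t (Units.mk0 a ha) := by
              rw [← h1]; group
            rw [mul_assoc, h3]; group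
          have h3 := htinj ((hreg _ x0 hx0 hx01 h2).trans (map_one t).symm)
          rw [inv_mul_eq_one] at h3
          exact (congrArg Units.val h3).symm
    have hbij := hinj.bijective_of_nat_card_le (by rw [hcy, Nat.card_eq_fintype_card])
    intro x hx hx1
    obtain ⟨a, ha⟩ := hbij.2 ⟨x, hx⟩
    have ha0 : a ≠ 0 := by
      rintro rfl
      rw [hf0] at ha
      exact hx1 (congrArg Subtype.val ha).symm
    exact ⟨Units.mk0 a ha0, by rw [← hf a ha0, ha]⟩
  -- `α` on `X ry`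
  have hαx0 : α x0 ≠ 1 := fun h0 => hx01 (by rwa [MulEquiv.map_eq_one_iff] at h0)
  obtain ⟨l, hl⟩ := htr (α x0) (hαy x0 hx0) hαx0
  have hαt : ∀ m, α (t m) = t m := fun m => hB _ (htK m)
  have hαr : ∀ x ∈ X ry, α x = t l * x * (t l)⁻¹ := by
    intro x hx
    by_cases hx1 : x = 1
    · rw [hx1, map_one]; group
    · obtain ⟨m, rfl⟩ := htr x hx hx1
      rw [map_mul, map_mul, map_inv, hαt, ← hl]
      calc t m * (t l * x0 * (t l)⁻¹) * (t m)⁻¹ = (t m * t l) * x0 * (t m * t l)⁻¹ := by group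
        _ = (t l * t m) * x0 * (t l * t m)⁻¹ := by rw [ht3 m l]
        _ = _ := by group
  have hll : l * l = 1 := by
    obtain ⟨h1, h2⟩ := hk x0 hx0 hx01
    refine htc l _ h1 h2 ?_
    have hw : α (n * x0 * n⁻¹) = t l * (n * x0 * n⁻¹) * (t l)⁻¹ := by
      have h4 := hnB _ (htK l)
      have h5 : (t l)⁻¹ * n⁻¹ = n⁻¹ * (t l)⁻¹ := by rw [← mul_inv_rev, ← mul_inv_rev, h4]
      calc α (n * x0 * n⁻¹) = n * (t l * x0 * (t l)⁻¹) * n⁻¹ := by
            rw [map_mul, map_mul, map_inv, hnA, hαr x0 hx0]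
        _ = (n * t l) * x0 * ((t l)⁻¹ * n⁻¹) := by group
        _ = (t l * n) * x0 * (n⁻¹ * (t l)⁻¹) := by rw [h4, h5]
        _ = _ := by group
    have h3 : α ⁅x0, n * x0 * n⁻¹⁆ = t l * ⁅x0, n * x0 * n⁻¹⁆ * (t l)⁻¹ := by
      rw [map_commutatorElement, hαr x0 hx0, hw]
      simp only [commutatorElement_def]
      group
    rw [hB _ (le_sup_left (a := X rr) h1)] at h3
    nth_rewrite 2 [h3]
    group
  rcases ht2 l hll with h1 | h1
  · refine Or.inl (eq_one_of_fix S α hB hA' hA fun x hx => ?_)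
    rw [hαr x hx, h1, one_mul, inv_one, mul_one]
  · right
    have hzc : ∀ K : Subgroup Y, (∀ g ∈ K, z rr * g = g * z rr) → ∀ g ∈ K, MulAut.conj (z rr) g = g := by
      intro K hK g hg
      rw [MulAut.conj_apply, hK g hg, mul_inv_cancel_right]
    have hz2 : (MulAut.conj (z rr))⁻¹ = MulAut.conj (z rr) := by
      rw [← map_inv, S.zi rr rr_mem]
    have h2 : (MulAut.conj (z rr))⁻¹ * α = 1 := by
      rw [hz2]
      refine eq_one_of_fix S _ (fun g hg => ?_) (fun g hg => ?_) (fun g hg => ?_) fun g hg => ?_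
      · rw [MulAut.mul_apply, hB g hg]
        refine hzc _ (fun u hu => ?_) g hg
        have h3 : u ∈ Z rr ⊔ Z (-rr) := by
          rw [← S.XZ rr rr_mem, ← S.XZ (-rr) (S.neg_mem rr_mem)]; exact hu
        exact (cls_commute_z S.C rr_mem h3).symm
      · rw [MulAut.mul_apply, hA' g hg]
        exact hzc _ (fun u hu => cBA' _ hzB u hu) g hg
      · rw [MulAut.mul_apply, hA g hg]
        exact hzc _ (fun u hu => cBA _ hzB u hu) g hg
      · rw [MulAut.mul_apply, hαr g hg, h1, MulAut.conj_apply]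
        have h3 := S.zz rr rr_mem
        calc z rr * (z rr * g * (z rr)⁻¹) * (z rr)⁻¹ = (z rr * z rr) * g * (z rr * z rr)⁻¹ := by group
          _ = g := by rw [h3]; group
    exact (inv_mul_eq_one.1 h2).symm

/-- **(K5)**, `α² = 1`. -/
theorem aut_sq (hF : Odd (Fintype.card F)) (e : Matrix.SpecialLinearGroup (Fin 2) F ≃* ↥(X rr ⊔ X (-rr)))
    (hcr : Nat.card (X rr) = Fintype.card F) (hcy : Nat.card (X ry) = Fintype.card F) (α : MulAut Y)
    (hB : ∀ g ∈ X rr ⊔ X (-rr), α g = g) (hA' : ∀ g ∈ X rs ⊔ X (-rs), α g = g)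
    (hA : ∀ g ∈ X rb ⊔ X (-rb), α g = g) : α ^ 2 = 1 := by
  rcases aut_eq S hF e hcr hcy α hB hA' hA with h | h
  · rw [h, one_pow]
  · rw [h, pow_two, ← map_mul, S.zz rr rr_mem, map_one]

end Cfsg.Agent.OddHalf.NI.AutB3

end

-- merged: Cfsg.Agent.OddHalf.NI.PosStd
section

/-!
# From `PosB3` (node NI, (F2')) to standard coordinates; (K5) and `AutM` for `ChartB3`

* `exists_std` : `PosB3 C F c d A B A' r r' b` ⟹ data `Std` with `B = ⟨X (±(e₁+e₂))⟩`, `A' = ⟨X (±(e₁-e₂))⟩`,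
  `A = ⟨X (±e₃)⟩`, `z (e₁+e₂) = d`, `z (e₁-e₂) = c d`;
* `aut_eq` : (K5): `α` trivial on `A`, `B`, `A'` ⟹ `α = 1` or `α = conj d`;
* `autM` : `AutM (fun N c d A B A' => ∃ F .., ChartB3 F N c d A B A')`.
-/

set_option autoImplicit false
set_option linter.unusedSectionVars false
set_option linter.dupNamespace false

namespace Cfsg.Agent.OddHalf.NI.PosStd

open CoxeterSystem Cfsg.Agent.ChevalleyStructure.CoxeterGeom Cfsg.Agent.Tits.Roots Cfsg.Agent.Tits.Core
  Cfsg.Agent.Tits.RootComb Cfsg.Agent.Nodes.Comb Cfsg.Agent.Nodes.Reps Cfsg.Agent.Nodes.BNOf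
  Cfsg.Agent.Nodes.RGDLib Cfsg.Agent.Nodes.Chart Cfsg.Agent.Nodes.Coroot Cfsg.Agent.Nodes.Perp
  Cfsg.Agent.Nodes.ZRel Cfsg.Agent.Nodes.TypeC Cfsg.Agent.Nodes.TypeCForm Cfsg.Agent.Nodes.KindBC
  Cfsg.Agent.Nodes.TyStd Cfsg.Agent.Nodes.ClsMap Cfsg.Agent.Nodes.RKindsBC Cfsg.Agent.Nodes.FreeTorus
  Cfsg.Agent.OddHalf.NI.AutB3Comb Cfsg.Agent.OddHalf.NI.AutB3Std
open Cfsg.Agent.OddHalf.NI.FTwo (PosB3 ChartB3)

variable {N : Type*} [Group N] {Om : Set (Subgroup N)} {p : ℕ}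

theorem rt_eq_rr : rt ((⟨0, by omega⟩, true) : Fin 3 × Bool) (⟨1, by omega⟩, true) = rr := by
  apply ee_injective
  rw [ee_rt, ee_eq]
  decide

/-- **Standard coordinates.** -/
theorem exists_std {C : Chart Om p (⊤ : Subgroup N)} {F : Type} [Field F] [Fintype F] {c d : N}
    {A B A' : Subgroup N} {r r' b : C.I → ℤ} (P : PosB3 C F c d A B A' r r' b) :
    ∃ (W : Type) (_ : Group W) (_ : Fintype W) (cs : CoxeterSystem (CoxeterMatrix.B 3) W) (T : Subgroup N)
      (nn : Fin 3 → N) (X Z : (Fin 3 → ℤ) → Subgroup N) (z : (Fin 3 → ℤ) → N),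
      Std cs p T nn X Z z ∧ X rr ⊔ X (-rr) = B ∧ X rs ⊔ X (-rs) = A' ∧ X rb ⊔ X (-rb) = A ∧ z rr = d ∧
      z rs = c * d ∧ (∀ x, IsRoot cs (isCartan 3) x → Nat.card (X x) = Fintype.card F) ∧
      (∀ x, IsRoot cs (isCartan 3) x → Nonempty (Matrix.SpecialLinearGroup (Fin 2) F ≃* ↥(X x ⊔ X (-x)))) := by
  obtain ⟨e, hA, hl⟩ := P.ty
  change C.I ≃ Fin 3 at e
  change ∀ i j, C.A i j = Cfsg.Agent.Nodes.TypeC.A 3 (e i) (e j) at hA
  change ∀ i, sr i ∈ C.R ↔ ((e i : Fin 3) : ℕ) + 1 < 3 at hl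
  have hM : ∀ i j, C.M i j = CoxeterMatrix.B 3 (e i) (e j) := fun i j => C.M_apply (τ := .B 3) hA i j
  let cs' := (CoxeterMatrix.B 3).toCoxeterSystem
  have hfin : Finite (CoxeterMatrix.B 3).Group := finite_of_isTy C P.ty cs'
  letI : Fintype (CoxeterMatrix.B 3).Group := Fintype.ofFinite _
  have hsr : ∀ i, sr i ∈ C.R ↔ sr (e i) ∈ RB 3 := fun i => by rw [hl, sr_mem_RB]
  have hroot : ∀ r ∈ RB 3, IsRoot cs' (isCartan 3) r := fun r hr => root_RB cs' hr
  have hact' : ∀ r ∈ RB 3, ∀ w, rep cs' (isCartan 3) w r ∈ RB 3 := fun r hr w => act_RB cs' hr w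
  have C₁ := cls_reindex C.cls e hM hA cs' (isCartan 3) hroot hact' hsr
  have pull : ∀ x : C.I → ℤ, (fun i => (fun j => x (e.symm j)) (e i)) = x := fun x => by funext i; simp
  have hR : ∀ x : Fin 3 → ℤ, IsRoot cs' (isCartan 3) x → ((fun i => x (e i)) ∈ C.R ↔ x ∈ RB 3) := fun x hx =>
    mem_R_iff (cs := C.cs) (h := C.h) e hM hA cs' (isCartan 3) C.cls.act hact' hsr hx
  have hI : ∀ x : Fin 3 → ℤ, IsRoot C.cs C.h (fun i => x (e i)) ↔ IsRoot cs' (isCartan 3) x := fun x =>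
    isRoot_comp_iff e hM hA cs' (isCartan 3)
  -- `r` dominant
  have hr0' : IsRoot cs' (isCartan 3) (fun j => r (e.symm j)) := by
    rw [← hI, pull]; exact C.cls.root r P.r_mem
  have hr0 : (fun j => r (e.symm j)) ∈ RB 3 := by
    rw [← hR _ hr0', pull]; exact P.r_mem
  obtain ⟨w, hw⟩ := exists_dom_rep cs' (isCartan 3) (fun j => r (e.symm j))
  have hwr : rep cs' (isCartan 3) w (fun j => r (e.symm j)) = rr := by
    obtain ⟨_, h1⟩ := (dom_RB (hact' _ hr0 w)).1 hw
    rw [h1]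
    exact rt_eq_rr
  obtain ⟨g, hg⟩ := exists_rp cs' C₁.rgd.nsys w⁻¹
  have C₂ := cls_map_of_injective C₁ (MulAut.conj g).toMonoidHom (MulAut.conj g).injective
  let rho : (Fin 3 → ℤ) → (C.I → ℤ) := fun x i => rep cs' (isCartan 3) w⁻¹ x (e i)
  have hrho : ∀ x, IsRoot cs' (isCartan 3) x → IsRoot C.cs C.h (rho x) := fun x hx => (hI _).2 (hx.act w⁻¹)
  have hneg : ∀ x, rho (-x) = -rho x := by
    intro x
    funext i
    change rep cs' (isCartan 3) w⁻¹ (-x) (e i) = -rep cs' (isCartan 3) w⁻¹ x (e i)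
    rw [map_neg]; rfl
  have hX : ∀ x, IsRoot cs' (isCartan 3) x →
      ((C.X (fun i => x (e i))).map (MulAut.conj g).toMonoidHom) = C.X (rho x) := fun x hx =>
    C₁.rgd.conj_rp hg hx
  have hZ : ∀ x ∈ RB 3, ((C.Z (fun i => x (e i))).map (MulAut.conj g).toMonoidHom) = C.Z (rho x) := fun x hx =>
    Cfsg.Agent.Nodes.ClsNorm.conj_Z C₁ hg hx
  have hz : ∀ x ∈ RB 3, MulAut.conj g (C.z (fun i => x (e i))) = C.z (rho x) := fun x hx =>
    Cfsg.Agent.Nodes.ClsNorm.conj_z C₁ hg hx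
  have hrr : rho rr = r := by
    funext i
    change rep cs' (isCartan 3) w⁻¹ rr (e i) = r i
    rw [← hwr, rep_inv_apply]
    simp
  have hrx : ∀ x : C.I → ℤ, rho (rep cs' (isCartan 3) w (fun j => x (e.symm j))) = x := by
    intro x
    funext i
    change rep cs' (isCartan 3) w⁻¹ (rep cs' (isCartan 3) w (fun j => x (e.symm j))) (e i) = x i
    rw [rep_inv_apply]
    simp
  have hRho : ∀ x ∈ RB 3, rho x ∈ C.R := fun x hx => (hR _ ((hroot x hx).act w⁻¹)).2 (hact' x hx w⁻¹)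
  -- orthogonality
  have horth : ∀ x : C.I → ℤ, IsRoot C.cs C.h x → form C.cs C.h x r = 0 →
      q (rep cs' (isCartan 3) w (fun j => x (e.symm j))) rr = 0 := by
    intro x hx h0
    rw [← zero_iff (cs := cs') (hroot rr rr_mem), ← hwr, form_rep]
    exact (Cfsg.Agent.OddHalf.NI.FTwo.CombStd.form_dn (cs' := cs') (h' := isCartan 3) e hM hA x
      (C.cls.root r P.r_mem)).1 h0
  have hcases : ∀ y : Fin 3 → ℤ, IsRoot cs' (isCartan 3) y → q y rr = 0 →
      y = rs ∨ y = -rs ∨ y = rb ∨ y = -rb := by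
    have key : ∀ y : Fin 3 → ℤ, IsRoot cs' (isCartan 3) y → 0 ≤ y → q y rr = 0 → y = rs ∨ y = rb := by
      intro y hy h0 hq
      rcases pos_cases cs' hy h0 with h | h | h | h | h | h | h | h | h
      · subst h; exact absurd hq (by decide)
      · exact Or.inl h
      · exact Or.inr h
      · subst h; exact absurd hq (by decide)
      · subst h; exact absurd hq (by decide)
      · subst h; exact absurd hq (by decide)
      · subst h; exact absurd hq (by decide)
      · subst h; exact absurd hq (by decide)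
      · subst h; exact absurd hq (by decide)
    intro y hy hq
    rcases hy.pos_or_neg with h0 | h0
    · rcases key y hy h0 hq with h | h
      · exact Or.inl h
      · exact Or.inr (Or.inr (Or.inl h))
    · have h1 : q (-y) rr = 0 := by
        have : q (-y) rr = -q y rr := by unfold q; simp only [Pi.neg_apply]; ring
        rw [this, hq, neg_zero]
      rcases key (-y) hy.neg (neg_nonneg.2 h0) h1 with h | h
      · exact Or.inr (Or.inl (by rw [← h, neg_neg]))
      · exact Or.inr (Or.inr (Or.inr (by rw [← h, neg_neg])))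
  -- `r'`
  have hr'0 : IsRoot cs' (isCartan 3) (fun j => r' (e.symm j)) := by
    rw [← hI, pull]; exact C.cls.root r' P.r'_mem
  have hr'1 : (fun j => r' (e.symm j)) ∈ RB 3 := by
    rw [← hR _ hr'0, pull]; exact P.r'_mem
  have hr' : rho rs = r' ∨ rho rs = -r' := by
    have h1 := hact' _ hr'1 w
    have h2 : rep cs' (isCartan 3) w (fun j => r' (e.symm j)) ∉ RC 3 := by
      intro h3
      rw [mem_RC_iff_ip cs' (hroot _ h1), (mem_RB_iff_ip cs' (hroot _ h1)).1 h1] at h3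
      omega
    rcases hcases _ (hroot _ h1) (horth r' (C.cls.root r' P.r'_mem) (by rw [form_comm]; exact P.rr')) with
      h | h | h | h
    · left; rw [← h, hrx]
    · right; rw [← hrx r', h, hneg, neg_neg]
    · exact absurd (h ▸ rb_mem) h2
    · refine absurd ?_ h2
      rw [h]
      obtain ⟨a, ha⟩ := rb_mem
      exact ⟨ng a, by rw [ee_neg, ha, wt_ng]; abel⟩
  have hb0 : IsRoot cs' (isCartan 3) (fun j => b (e.symm j)) := by
    rw [← hI, pull]; exact P.b_root
  have hb : rho rb = b ∨ rho rb = -b := by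
    have h1 : rep cs' (isCartan 3) w (fun j => b (e.symm j)) ∉ RB 3 := by
      intro h1
      have h2 := hRho _ h1
      rw [hrx] at h2
      exact P.b_not h2
    rcases hcases _ (hb0.act w) (horth b P.b_root P.br) with h | h | h | h
    · exact absurd (h ▸ rs_mem) h1
    · refine absurd ?_ h1
      rw [h]
      obtain ⟨a, a', ha, ha'⟩ := rs_mem
      exact ⟨ng a, ng a', ha, by rw [ee_neg, ha', wt_ng, wt_ng]; abel⟩
    · left; rw [← h, hrx]
    · right; rw [← hrx b, h, hneg, neg_neg]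
  have hsup : ∀ x, IsRoot cs' (isCartan 3) x →
      ((C.X (fun i => x (e i))).map (MulAut.conj g).toMonoidHom) ⊔
        ((C.X (fun i => (-x) (e i))).map (MulAut.conj g).toMonoidHom) = LL C.X (rho x) := by
    intro x hx
    rw [hX x hx, hX (-x) hx.neg, hneg]; rfl
  have hLneg : ∀ y : C.I → ℤ, LL C.X (-y) = LL C.X y := fun y => by
    unfold LL; rw [neg_neg, sup_comm]
  have Rr := hroot rr rr_mem
  have Rs := hroot rs rs_mem
  have Rb := root_RC cs' rb_mem
  have hzrr : MulAut.conj g (C.z (fun i => rr (e i))) = d := by rw [hz rr rr_mem, hrr, P.zr]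
  have hzrs : MulAut.conj g (C.z (fun i => rs (e i))) = c * d := by
    rw [hz rs rs_mem]
    rcases hr' with h | h
    · rw [h, P.zr']
    · rw [h, C.cls.z_neg r' P.r'_mem, P.zr']
  refine ⟨(CoxeterMatrix.B 3).Group, inferInstance, inferInstance, cs', _, _, _, _, _, ⟨C₂, C.prime, C.odd, ?_, ?_, ?_⟩,
    ?_, ?_, ?_, hzrr, hzrs, ?_, ?_⟩
  · intro x hx
    change (C.X (fun i => x (e i))).map _ = (C.Z (fun i => x (e i))).map _
    rw [P.zx _ ((hR x (hroot x hx)).2 hx)]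
  · have h1 : G1 cs' (isCartan 3) (fun x : Fin 3 → ℤ => C.X (fun i => x (e i))) = ⊤ :=
      (G1_reindex (cs := C.cs) (h := C.h) e hM hA cs' (isCartan 3) C.X).trans C.gen
    unfold G1 RGD.Sup at h1 ⊢
    rw [← Subgroup.map_iSup, h1]
    exact Subgroup.map_top_of_surjective _ (MulAut.conj g).surjective
  · intro x
    change MulAut.conj g (C.z (fun i => rr (e i))) * MulAut.conj g (C.z (fun i => rs (e i))) * x =
      x * (MulAut.conj g (C.z (fun i => rr (e i))) * MulAut.conj g (C.z (fun i => rs (e i))))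
    rw [hzrr, hzrs]
    have h1 := Subgroup.mem_center_iff.1 P.c_center
    have h2 : d * (c * d) = c := by
      rw [← mul_assoc, h1 d, mul_assoc, ← pow_two, ← P.d_order, pow_orderOf_eq_one, mul_one]
    rw [h2]
    exact (h1 x).symm
  · rw [P.B_eq, ← hrr]; exact hsup rr Rr
  · rw [P.A'_eq]
    refine (hsup rs Rs).trans ?_
    rcases hr' with h | h <;> rw [h]
    rw [hLneg]
  · rw [P.A_eq]
    refine (hsup rb Rb).trans ?_
    rcases hb with h | h <;> rw [h]
    rw [hLneg]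
  · intro x hx
    change Nat.card ((C.X (fun i => x (e i))).map (MulAut.conj g).toMonoidHom) = _
    rw [hX x hx, P.card _ (hrho x hx)]
  · intro x hx
    obtain ⟨f⟩ := P.sl _ (hrho x hx)
    exact ⟨f.symm.trans (MulEquiv.subgroupCongr (hsup x hx).symm)⟩

/-- **(K5).** -/
theorem aut_eq [Finite N] {F : Type} [Field F] [Fintype F] {c d : N} {A B A' : Subgroup N}
    (H : ChartB3 F N c d A B A') (α : MulAut N) (hA : ∀ x ∈ A, α x = x) (hB : ∀ x ∈ B, α x = x)
    (hA' : ∀ x ∈ A', α x = x) : α = 1 ∨ α = MulAut.conj d := by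
  obtain ⟨Om, p, C, r, r', b, -, P⟩ := H
  obtain ⟨W, _, _, cs, T, nn, X, Z, z, S, rfl, rfl, rfl, rfl, -, hc, hs⟩ := exists_std P
  obtain ⟨e⟩ := hs rr (S.rB rr_mem)
  exact AutB3.aut_eq S P.odd e (hc rr (S.rB rr_mem)) (hc ry (S.rB ry_mem)) α hB hA' hA

/-- `α² = 1`. -/
theorem aut_sq [Finite N] {F : Type} [Field F] [Fintype F] {c d : N} {A B A' : Subgroup N}
    (H : ChartB3 F N c d A B A') (α : MulAut N) (hA : ∀ x ∈ A, α x = x) (hB : ∀ x ∈ B, α x = x)
    (hA' : ∀ x ∈ A', α x = x) : α ^ 2 = 1 := by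
  rcases aut_eq H α hA hB hA' with h | h
  · rw [h, one_pow]
  · obtain ⟨Om, p, C, r, r', b, -, P⟩ := H
    have h1 : d * d = 1 := by rw [← pow_two, ← P.d_order, pow_orderOf_eq_one]
    rw [h, pow_two, ← map_mul, h1, map_one]

/-- `S7` of `NI/Props.lean` for the charts of type `B₃`. -/
def S7B3 : ∀ (N : Type*) [Group N], N → N → Subgroup N → Subgroup N → Subgroup N → Prop :=
  fun N _ c d A B A' => ∃ (F : Type) (_ : Field F) (_ : Fintype F), ChartB3 F N c d A B A'

theorem autM : AutM S7B3 := by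
  rintro N _ _ c d A B A' ⟨F, _, _, H⟩ α hA hB hA'
  exact aut_sq H α hA hB hA'

end Cfsg.Agent.OddHalf.NI.PosStd

end
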