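import Cfsg.Agent.OddHalf.NI.ThmX
import Cfsg.Agent.OddHalf.NI.PumpW
import Cfsg.Agent.OddHalf.NI.LemmaP
import Cfsg.Agent.SignalizersComponents.PCompQuot
import Cfsg.Agent.SignalizersComponents.ComponentImage
import Cfsg.Agent.OddHalf.NI.Props
import Cfsg.Agent.OddHalf.NI.Final
import Cfsg.Agent.Lib.PSL2Inv
import Cfsg.Agent.TwoFusion.QuatCoverSL
import Cfsg.Agent.S1304

-- merged: Cfsg.Agent.OddHalf.NI.ThmXOf
section

/-!
# THEOREM X: the pump-up property `PumpV` from L-balance and the B-property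
-/

set_option autoImplicit false

namespace Cfsg.Agent.OddHalf.NI.ThmXOf

open Subgroup Cfsg Cfsg.Agent.SignalizersComponents Cfsg.Agent.OddHalf.D3 Cfsg.Agent.OddHalf.NI
open Cfsg.Agent.OddHalf.NI.ThmX

variable {G : Type*} [Group G]

/-- The group generated by pairwise commuting involutions is elementary abelian. -/
theorem ea_closure {S : Set G} (h : CInv S) : EA (Subgroup.closure S) := by
  have hcomm : ∀ x ∈ Subgroup.closure S, ∀ y ∈ Subgroup.closure S, x * y = y * x := by
    intro x hx y hy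
    have h1 := Subgroup.isMulCommutative_closure (k := S) (fun a ha b hb => h.comm a ha b hb)
    exact congrArg Subtype.val (h1.is_comm.comm (⟨x, hx⟩ : Subgroup.closure S) ⟨y, hy⟩)
  intro w hw
  induction hw using Subgroup.closure_induction with
  | mem z hz => exact sq_of_order (h.ord z hz)
  | one => exact one_mul 1
  | mul u v hu hv ihu ihv =>
    calc u * v * (u * v) = u * (v * u) * v := by group
      _ = (u * u) * (v * v) := by rw [← hcomm u hu v hv]; group
      _ = 1 := by rw [ihu, ihv, one_mul]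
  | inv u _ ihu =>
    rw [← mul_inv_rev, ihu, inv_one]

theorem pumpV [Finite G] (hFT : FT G) (hB : BL G) (hBP : ∀ H : Subgroup G, HasBProperty ↥H) :
    PumpV G := by
  intro S t K hS hI hK
  have hIS : CInv S := hI.mono (Set.subset_insert t S)
  have hne : Subgroup.closure S ≠ ⊥ := by
    obtain ⟨s, hs⟩ := hS
    intro h
    have h1 : s = 1 := by
      rw [← Subgroup.mem_bot, ← h]
      exact Subgroup.subset_closure hs
    have h2 := hIS.ord s hs
    rw [h1, orderOf_one] at h2
    exact absurd h2 (by norm_num)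
  have h1 := blw hFT hB hBP _ (ea_closure hIS) hne
  rw [Subgroup.centralizer_closure] at h1
  have htC : t ∈ centralizer S := by
    rw [mem_centralizer_iff]
    intro s hs
    exact hI.comm s (Set.mem_insert_of_mem _ hs) t (Set.mem_insert _ _)
  exact pumpH hFT h1 htC (hI.ord t (Set.mem_insert _ _)) hK

end Cfsg.Agent.OddHalf.NI.ThmXOf

end

-- merged: Cfsg.Agent.OddHalf.NI.OddQ
section

/-!
# Components modulo a central subgroup of odd order

`COdd f`: `f : Y →* Z` is surjective with central kernel of odd order. Components of `H` and of `f(H)`, and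
centralizers of involutions, correspond.
-/

set_option autoImplicit false

namespace Cfsg.Agent.OddHalf.NI.OddQ

open Subgroup Cfsg Cfsg.Agent.SignalizersComponents Cfsg.Agent.OddHalf.D3 Cfsg.Agent.OddHalf.NI
open scoped commutatorElement

variable {Y Z : Type*} [Group Y] [Group Z]

structure COdd (f : Y →* Z) : Prop where
  surj : Function.Surjective f
  cen : f.ker ≤ center Y
  odd : Odd (Nat.card f.ker)

variable {f : Y →* Z}

/-- An element of the kernel whose square lies in `K` lies in `K`. -/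
theorem COdd.mem_of_sq (hf : COdd f) {K : Subgroup Y} {z : Y} (hz : z ∈ f.ker) (h : z * z ∈ K) :
    z ∈ K := by
  have h1 : z ^ Nat.card f.ker = 1 := by
    have := pow_card_eq_one' (G := f.ker) (x := ⟨z, hz⟩)
    exact congrArg Subtype.val this
  obtain ⟨m, hm⟩ := hf.odd
  rw [hm] at h1
  have h2 : z = ((z * z) ^ m)⁻¹ := by
    rw [eq_inv_iff_mul_eq_one, ← pow_two, ← pow_mul, ← pow_succ', h1]
  rw [h2]
  exact inv_mem (pow_mem h m)

theorem COdd.eq_one_of_sq (hf : COdd f) {z : Y} (hz : z ∈ f.ker) (h : z * z = 1) : z = 1 := by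
  have h1 := hf.mem_of_sq (K := ⊥) hz (by rw [h]; exact one_mem _)
  exact Subgroup.mem_bot.mp h1

/-- Involutions: `f d` and `f x` commute iff `d` and `x` commute. -/
theorem COdd.comm_iff (hf : COdd f) {d x : Y} (hd : d * d = 1) :
    f x * f d = f d * f x ↔ x * d = d * x := by
  constructor
  · intro h
    have h1 : x * d * (d * x)⁻¹ ∈ f.ker := by
      rw [MonoidHom.mem_ker, map_mul, map_inv, map_mul, map_mul, h, mul_inv_cancel]
    set o := x * d * (d * x)⁻¹ with ho
    have hc : ∀ y, y * o = o * y := fun y => mem_center_iff.mp (hf.cen h1) y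
    have h2 : x * d = o * (d * x) := by rw [ho]; group
    have h3 : x * d * d = o * o * (d * d * x) := by
      calc x * d * d = o * (d * x) * d := by rw [h2]
        _ = o * d * (x * d) := by group
        _ = o * d * (o * (d * x)) := by rw [h2]
        _ = o * (d * o) * (d * x) := by group
        _ = o * (o * d) * (d * x) := by rw [hc]
        _ = o * o * (d * d * x) := by group
    rw [mul_assoc, hd, mul_one, one_mul] at h3
    have h4 : o * o = 1 := by
      have := congrArg (· * x⁻¹) h3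
      simpa using this.symm
    have h5 := hf.eq_one_of_sq h1 h4
    rw [h2, h5, one_mul]
  · intro h
    rw [← map_mul, ← map_mul, h]

theorem COdd.map_inf_cs (hf : COdd f) {H : Subgroup Y} {d : Y} (hd : d * d = 1) :
    (H ⊓ centralizer ({d} : Set Y)).map f = H.map f ⊓ centralizer ({f d} : Set Z) := by
  ext z
  constructor
  · rintro ⟨x, hx, rfl⟩
    exact ⟨⟨x, hx.1, rfl⟩, mem_cs.mpr ((hf.comm_iff hd).mpr (mem_cs.mp hx.2))⟩
  · rintro ⟨⟨x, hx, rfl⟩, h⟩
    exact ⟨x, ⟨hx, mem_cs.mpr ((hf.comm_iff hd).mp (mem_cs.mp h))⟩, rfl⟩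

theorem COdd.map_cs (hf : COdd f) {d : Y} (hd : d * d = 1) :
    (centralizer ({d} : Set Y)).map f = centralizer ({f d} : Set Z) := by
  have h1 := hf.map_inf_cs (H := ⊤) hd
  rwa [top_inf_eq, Subgroup.map_top_of_surjective f hf.surj, top_inf_eq] at h1

theorem COdd.orderOf_map (hf : COdd f) {d : Y} (hd : orderOf d = 2) : orderOf (f d) = 2 := by
  apply order_of_sq
  · rw [← map_mul, sq_of_order hd, map_one]
  · intro h
    have h1 := hf.eq_one_of_sq (z := d) h (sq_of_order hd)
    rw [h1, orderOf_one] at hd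
    exact absurd hd (by norm_num)

/-- An involution whose image lies in `f(K)` lies in `K`. -/
theorem COdd.mem_of_map (hf : COdd f) {K : Subgroup Y} {d : Y} (hd : d * d = 1) (h : f d ∈ K.map f) :
    d ∈ K := by
  obtain ⟨k, hk, hkd⟩ := h
  have h1 : k⁻¹ * d ∈ f.ker := by
    rw [MonoidHom.mem_ker, map_mul, map_inv, hkd, inv_mul_cancel]
  have hc : ∀ y, y * (k⁻¹ * d) = (k⁻¹ * d) * y := fun y => mem_center_iff.mp (hf.cen h1) y
  have h2 : d = k * (k⁻¹ * d) := by group
  have h3 : (k⁻¹ * d) * (k⁻¹ * d) ∈ K := by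
    have h4 : k * (k⁻¹ * d) * (k * (k⁻¹ * d)) = 1 := by rw [← h2, hd]
    have h5 : k * k * ((k⁻¹ * d) * (k⁻¹ * d)) = 1 := by
      calc k * k * ((k⁻¹ * d) * (k⁻¹ * d)) = k * (k * (k⁻¹ * d)) * (k⁻¹ * d) := by group
        _ = k * ((k⁻¹ * d) * k) * (k⁻¹ * d) := by rw [hc k]
        _ = k * (k⁻¹ * d) * (k * (k⁻¹ * d)) := by group
        _ = 1 := h4
    have h6 : (k⁻¹ * d) * (k⁻¹ * d) = (k * k)⁻¹ := by
      rw [eq_inv_iff_mul_eq_one, ← h5]
      have h7 : ∀ y, y * ((k⁻¹ * d) * (k⁻¹ * d)) = ((k⁻¹ * d) * (k⁻¹ * d)) * y := by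
        intro y
        rw [← mul_assoc, hc y, mul_assoc, hc y, ← mul_assoc]
      rw [h7]
    rw [h6]
    exact inv_mem (mul_mem hk hk)
  have h4 := hf.mem_of_sq h1 h3
  rw [h2]
  exact mul_mem hk h4

/-- The image of a component. -/
theorem COdd.comp_map (hf : COdd f) {H K : Subgroup Y} (hK : CompIn H K) : CompIn (H.map f) (K.map f) := by
  refine ⟨Subgroup.map_mono hK.le, ?_⟩
  let g : H →* H.map f := f.subgroupMap H
  have hg : Function.Surjective g := f.subgroupMap_surjective H
  have e : (K.subgroupOf H).map g = (K.map f).subgroupOf (H.map f) := by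
    ext ⟨x, hx⟩
    rw [mem_subgroupOf]
    constructor
    · rintro ⟨⟨y, hyH⟩, hy, hyx⟩
      exact ⟨y, hy, congrArg Subtype.val hyx⟩
    · rintro ⟨y, hy, hyx⟩
      exact ⟨⟨y, hK.le hy⟩, hy, Subtype.ext hyx⟩
  rw [← e]
  rcases ComponentImage.map_eq_bot_or_isComponent hg hK.comp with h | h
  · exfalso
    apply not_comm_self hK.quasi
    intro x hx
    have h1 : (⟨x, hK.le hx⟩ : H) ∈ g.ker := by
      rw [Subgroup.map_eq_bot_iff] at h
      exact h hx
    have h2 : x ∈ f.ker := congrArg Subtype.val h1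
    rw [mem_centralizer_iff]
    intro y _
    exact mem_center_iff.mp (hf.cen h2) y
  · exact h

/-- Components with the same image are equal. -/
theorem COdd.comp_inj (hf : COdd f) {H K K' : Subgroup Y} (hK : CompIn H K) (hK' : CompIn H K')
    (h : K.map f = K'.map f) : K = K' := by
  by_contra hne
  have h1 := hK.comm hK' hne
  have h2 := (hf.comp_map hK).quasi
  apply not_comm_self h2
  rintro _ ⟨x, hx, rfl⟩
  rw [mem_centralizer_iff]
  intro z hz
  rw [h] at hz
  obtain ⟨y, hy, rfl⟩ := hz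
  rw [← map_mul, ← map_mul, comm_elt h1 hx hy]

/-- The preimage of a component. -/
theorem COdd.comp_lift (hf : COdd f) {H : Subgroup Y} {L : Subgroup Z} (hL : CompIn (H.map f) L) :
    ∃ K : Subgroup Y, CompIn H K ∧ K.map f = L := by
  let g : H →* H.map f := f.subgroupMap H
  have hg : Function.Surjective g := f.subgroupMap_surjective H
  have hgc : g.ker ≤ center H := by
    intro x hx
    have h1 : (x : Y) ∈ f.ker := congrArg Subtype.val hx
    rw [mem_center_iff]
    intro y
    exact Subtype.ext (mem_center_iff.mp (hf.cen h1) y)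
  -- the full preimage
  obtain ⟨P, hP⟩ : ∃ P : Subgroup H, P = (L.subgroupOf (H.map f)).comap g := ⟨_, rfl⟩
  have hPs : P.IsSubnormal := by
    rw [hP]; exact hL.comp.1.comap g
  have hPm : P.map g = L.subgroupOf (H.map f) := by
    rw [hP, Subgroup.map_comap_eq_self_of_surjective hg]
  have hkP : g.ker ≤ P := by
    rw [hP]
    intro x hx
    rw [mem_comap, MonoidHom.mem_ker.mp hx]
    exact one_mem _
  obtain ⟨K, hK⟩ : ∃ K : Subgroup H, K = ⁅P, P⁆ := ⟨_, rfl⟩
  have hKP : K ≤ P := hK ▸ commutator_le_self P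
  have hLp : ⁅L.subgroupOf (H.map f), L.subgroupOf (H.map f)⁆ = L.subgroupOf (H.map f) :=
    Subgroup.isPerfect_iff.mp hL.comp.2.1
  have hKm : K.map g = L.subgroupOf (H.map f) := by
    rw [hK, map_commutator, hPm, hLp]
  -- `P = K · ker g`
  have hPK : P ≤ K ⊔ g.ker := by
    intro x hx
    have h1 : g x ∈ K.map g := by rw [hKm, ← hPm]; exact ⟨x, hx, rfl⟩
    obtain ⟨k, hk, hkx⟩ := h1
    have h2 : k⁻¹ * x ∈ g.ker := by
      rw [MonoidHom.mem_ker, map_mul, map_inv, hkx, inv_mul_cancel]
    have h3 : x = k * (k⁻¹ * x) := by group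
    rw [h3]
    exact mul_mem ((le_sup_left : K ≤ _) hk) ((le_sup_right : g.ker ≤ _) h2)
  have hKp : ⁅K, K⁆ = K := by
    apply le_antisymm (commutator_le_self K)
    conv_lhs => rw [hK]
    rw [commutator_le]
    intro x hx y hy
    have hx1 := hPK hx
    have hy1 := hPK hy
    have dec : ∀ w ∈ P, ∃ k ∈ K, ∃ c ∈ g.ker, w = k * c := by
      intro w hw
      have h1 : g w ∈ K.map g := by rw [hKm, ← hPm]; exact ⟨w, hw, rfl⟩
      obtain ⟨k, hk, hkx⟩ := h1
      refine ⟨k, hk, k⁻¹ * w, ?_, by group⟩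
      rw [MonoidHom.mem_ker, map_mul, map_inv, hkx, inv_mul_cancel]
    obtain ⟨k, hk, c, hc, rfl⟩ := dec x hx
    obtain ⟨l, hl, d, hd, rfl⟩ := dec y hy
    have hc' : ∀ y : H, y * c = c * y := fun y => mem_center_iff.mp (hgc hc) y
    have hd' : ∀ y : H, y * d = d * y := fun y => mem_center_iff.mp (hgc hd) y
    have h4 : ⁅k * c, l * d⁆ = ⁅k, l⁆ := by
      rw [commutatorElement_def, commutatorElement_def, mul_inv_rev, mul_inv_rev]
      calc k * c * (l * d) * (c⁻¹ * k⁻¹) * (d⁻¹ * l⁻¹)
          = k * (c * l) * (d * (c⁻¹ * k⁻¹ * d⁻¹)) * l⁻¹ := by group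
        _ = k * (l * c) * (d * (c⁻¹ * k⁻¹ * d⁻¹)) * l⁻¹ := by rw [hc' l]
        _ = k * (l * c) * ((c⁻¹ * k⁻¹ * d⁻¹) * d) * l⁻¹ := by rw [← hd' (c⁻¹ * k⁻¹ * d⁻¹)]
        _ = k * l * k⁻¹ * l⁻¹ := by group
    rw [h4]
    exact commutator_mem_commutator hk hl
  have hKs : K.IsSubnormal := by
    refine Subgroup.IsSubnormal.trans hKP ?_ hPs
    apply Normal.isSubnormal
    rw [hK]
    exact (show (⁅P, P⁆.subgroupOf P).Normal from by
      rw [normal_subgroupOf_iff_le_normalizer (commutator_le_self P), le_normalizer_iff_commutator_le_left]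
      exact commutator_mono (commutator_le_self P) le_rfl)
  have hKq : IsQuasisimple K := by
    let h : K →* (L.subgroupOf (H.map f) : Subgroup (H.map f)) :=
      (MulEquiv.subgroupCongr hKm).toMonoidHom.comp (g.subgroupMap K)
    have hh : Function.Surjective h :=
      (MulEquiv.subgroupCongr hKm).surjective.comp (g.subgroupMap_surjective K)
    have hker : h.ker ≤ center K := by
      intro x hx
      have h1 : g x = 1 := by
        have h2 : ((h x : L.subgroupOf (H.map f)) : H.map f) = 1 := by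
          rw [MonoidHom.mem_ker.mp hx]; rfl
        exact h2
      rw [mem_center_iff]
      intro y
      exact Subtype.ext (mem_center_iff.mp (hgc h1) y)
    have e := QuotientGroup.quotientKerEquivOfSurjective h hh
    exact PCompQuot.quasisimple_of_central_quotient (Subgroup.isPerfect_iff.mpr hKp) hker
      (Components.isQuasisimple_of_mulEquiv e.symm hL.comp.2)
  refine ⟨K.map H.subtype, ⟨map_subtype_le K, ?_⟩, ?_⟩
  · have h1 : (K.map H.subtype).subgroupOf H = K :=
      Subgroup.comap_map_eq_self_of_injective (Subgroup.subtype_injective _) K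
    rw [h1]
    exact ⟨hKs, hKq⟩
  · ext z
    constructor
    · rintro ⟨_, ⟨x, hx, rfl⟩, rfl⟩
      have h1 : g x ∈ L.subgroupOf (H.map f) := by rw [← hKm]; exact ⟨x, hx, rfl⟩
      exact h1
    · intro hz
      have h1 : (⟨z, hL.le hz⟩ : H.map f) ∈ L.subgroupOf (H.map f) := hz
      rw [← hKm] at h1
      obtain ⟨x, hx, hxz⟩ := h1
      exact ⟨x, ⟨x, hx, rfl⟩, congrArg Subtype.val hxz⟩

end Cfsg.Agent.OddHalf.NI.OddQ

end

-- merged: Cfsg.Agent.OddHalf.NI.FrameKill
section

/-!
# THEOREM X from (F2'), (Sol) and (AutM)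

The components `D` of `C(S)` in THEOREM X may have a centre of even and odd order; (F2') is applied to
`D / O(D)`. In Solomon's configuration `O(Z(Du))` centralizes `Dv` (AutM), so that (Sol) can be applied to
`⟨Du, Dv⟩` modulo a central subgroup of odd order.
-/

set_option autoImplicit false

namespace Cfsg.Agent.OddHalf.NI.FrameKill

open Subgroup Cfsg Cfsg.Agent.SignalizersComponents Cfsg.Agent.OddHalf.NI
open Cfsg.Agent.OddHalf.D3 (cj Comp mem_cs sq_of_order order_of_sq not_comm_self comm_elt conj_mem_cj comm_symm)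
open Cfsg.Agent.OddHalf.NI.ThmX (CInv F2p UI)
open Cfsg.Agent.OddHalf.NI.OddQ
open scoped commutatorElement

universe u

/-- A quasisimple group with an involution `b ∉ Z(N)` in a component `B ≅ SL₂(q)` of `C(b)` is of Lie type in odd
characteristic modulo its centre (S1310; `M₁₁` is excluded by the component). -/
def LieCl : Prop :=
  ∀ (N : Type u) [Group N] [Finite N], IsQuasisimple N → ∀ (b : N) (B : Subgroup N), orderOf b = 2 →
    b ∉ center N → CompIn (centralizer ({b} : Set N)) B → b ∈ B → IsSL ↥B → Iface.LieOdd (N ⧸ center N)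

/-! ### `SL₂(F)` -/

section SL

variable {F : Type} [Field F] [Fintype F]

/-- the type of the members -/
def QQ (F : Type) [Field F] {G : Type*} [Group G] (K : Subgroup G) : Prop :=
  Nonempty (↥K ≃* Matrix.SpecialLinearGroup (Fin 2) F)

theorem sl_inv (hF : Odd (Fintype.card F)) {K : Type*} [Group K] (e : K ≃* Matrix.SpecialLinearGroup (Fin 2) F)
    {x y : K} (hx : orderOf x = 2) (hy : orderOf y = 2) : x = y := by
  have h2 := TwoFusion.QuatCoverSL.two_ne_zero_of_odd hF
  have key : ∀ z : K, orderOf z = 2 → e z = -1 := by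
    intro z hz
    have h1 : e z * e z = 1 := by rw [← map_mul, sq_of_order hz, map_one]
    rcases Lib.PSL2Inv.sq_eq_one h2 h1 with h | h
    · exfalso
      have h3 : z = 1 := e.injective (by rw [h, map_one])
      rw [h3, orderOf_one] at hz
      exact absurd hz (by norm_num)
    · exact h
  exact e.injective (by rw [key x hx, key y hy])

theorem ui_of_sl (hF : Odd (Fintype.card F)) {G : Type*} [Group G] {K : Subgroup G} (h : QQ F K) : UI K := by
  obtain ⟨e⟩ := h
  intro x hx y hy hx2 hy2
  have := sl_inv hF e (x := ⟨x, hx⟩) (y := ⟨y, hy⟩) (by rw [Subgroup.orderOf_mk, hx2])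
    (by rw [Subgroup.orderOf_mk, hy2])
  exact congrArg Subtype.val this

omit [Fintype F] in
theorem sq_eq_one_of_center {K : Type*} [Group K] (e : K ≃* Matrix.SpecialLinearGroup (Fin 2) F) {x : K}
    (hx : x ∈ center K) : x * x = 1 := by
  have h1 : e x ∈ center (Matrix.SpecialLinearGroup (Fin 2) F) := by
    rw [mem_center_iff] at hx ⊢
    intro g
    have := congrArg e (hx (e.symm g))
    simpa using this
  obtain ⟨r, hr, hre⟩ := Matrix.SpecialLinearGroup.mem_center_iff.mp h1
  apply e.injective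
  rw [map_mul, map_one]
  apply Subtype.ext
  change (e x).1 * (e x).1 = 1
  rw [← hre, ← map_mul, ← pow_two]
  rw [Fintype.card_fin] at hr
  rw [hr, map_one]

/-- The image of `SL₂(F)` modulo a central subgroup of odd order. -/
theorem sl_map {Y Z : Type*} [Group Y] [Group Z] {f : Y →* Z} (hf : COdd f) {K : Subgroup Y}
    (h : QQ F K) : QQ F (K.map f) := by
  obtain ⟨e⟩ := h
  have hinj : Function.Injective (f.subgroupMap K) := by
    rw [injective_iff_map_eq_one]
    intro x hx
    have h1 : (x : Y) ∈ f.ker := congrArg Subtype.val hx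
    have h2 : x ∈ center K := by
      rw [mem_center_iff]
      intro y
      exact Subtype.ext (mem_center_iff.mp (hf.cen h1) y)
    have h3 := sq_eq_one_of_center e h2
    exact Subtype.ext (hf.eq_one_of_sq h1 (congrArg Subtype.val h3))
  exact ⟨(MulEquiv.ofBijective (f.subgroupMap K) ⟨hinj, f.subgroupMap_surjective K⟩).symm.trans e⟩

theorem isSL_of_qq (hF : Odd (Fintype.card F)) (h3 : 3 < Fintype.card F) {G : Type*} [Group G] {K : Subgroup G}
    (h : QQ F K) : IsSL ↥K := ⟨F, inferInstance, inferInstance, hF, h3, h⟩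

end SL

theorem ui_of_isSL {G : Type*} [Group G] {K : Subgroup G} (h : IsSL ↥K) : UI K := by
  obtain ⟨F, i1, i2, h1, -, h2⟩ := h
  exact ui_of_sl h1 h2

/-! ### odd cores -/

section Core

theorem center_two {N : Type*} [Group N] [Finite N] (hO : oddCore N = ⊥) : IsPGroup 2 ↥(center N) := by
  intro x
  obtain ⟨a, m, hm, hx⟩ := Nat.exists_eq_two_pow_mul_odd (n := orderOf x) (orderOf_pos x).ne'
  refine ⟨a, ?_⟩
  set y : N := ((x ^ 2 ^ a : center N) : N) with hy
  have hyo : orderOf y = m := by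
    rw [hy, Subgroup.orderOf_coe, orderOf_pow, hx, Nat.gcd_eq_right (dvd_mul_right _ _),
      Nat.mul_div_cancel_left _ (by positivity)]
  have hyc : y ∈ center N := (x ^ 2 ^ a : center N).2
  have hn : (zpowers y).Normal := by
    refine ⟨fun n hn g => ?_⟩
    have h1 : n ∈ center N := (zpowers_le.mpr hyc) hn
    rw [mem_center_iff.mp h1 g, mul_inv_cancel_right]
    exact hn
  have h1 : zpowers y ≤ oddCore N := by
    apply Lib.Cores.le_pPrimeCore hn
    rw [Nat.card_zpowers, hyo, Nat.coprime_two_right]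
    exact hm
  rw [hO, le_bot_iff, zpowers_eq_bot] at h1
  exact Subtype.ext h1

theorem oddCore_le_center {D : Type*} [Group D] [Finite D] (hq : IsQuasisimple D) {b : D}
    (hb : orderOf b = 2) : oddCore D ≤ center D := by
  rcases Components.quasisimple_normal hq (oddCore D) (Lib.Cores.pPrimeCore_normal 2) with h | h
  · exfalso
    have h1 : (Nat.card (oddCore D)).Coprime 2 := Lib.Cores.pPrimeCore_coprime 2
    rw [h, Subgroup.card_top] at h1
    have h2 : 2 ∣ Nat.card D := hb ▸ orderOf_dvd_natCard b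
    exact Nat.not_coprime_of_dvd_of_dvd (by norm_num) h2 dvd_rfl h1
  · exact h

instance oddCore_normal {D : Type*} [Group D] : (oddCore D).Normal := Lib.Cores.pPrimeCore_normal 2

theorem cOdd_mk {D : Type*} [Group D] [Finite D] (hq : IsQuasisimple D) {b : D} (hb : orderOf b = 2) :
    COdd (QuotientGroup.mk' (oddCore D)) where
  surj := QuotientGroup.mk'_surjective _
  cen := by rw [QuotientGroup.ker_mk']; exact oddCore_le_center hq hb
  odd := by
    rw [QuotientGroup.ker_mk']
    exact Nat.coprime_two_right.mp (Lib.Cores.pPrimeCore_coprime 2)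

theorem oddCore_eq_bot {Y Z : Type*} [Group Y] [Group Z] [Finite Y] [Finite Z] {f : Y →* Z} (hf : COdd f)
    (h : oddCore Y ≤ f.ker) : oddCore Z = ⊥ := by
  have h1 := ClassificationK.PCompTransport.comap_pPrimeCore 2 f (Nat.coprime_two_right.mpr hf.odd)
    (by rw [MonoidHom.range_eq_top.mpr hf.surj]; exact Subgroup.IsSubnormal.top)
  rw [eq_bot_iff]
  intro z hz
  obtain ⟨y, rfl⟩ := hf.surj z
  have h2 : y ∈ (pPrimeCore 2 Z).comap f := hz
  rw [h1] at h2
  exact h h2

end Core

/-! ### the configuration -/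

section Conf

variable (F : Type) [Field F] {G : Type*} [Group G]

/-- The data of (F2'). -/
structure PP (c d : G) (D A B B' : Subgroup G) : Prop where
  quasi : IsQuasisimple D
  cD : c ∈ centralizer (D : Set G)
  oc : orderOf c = 2
  od : orderOf d = 2
  cA : c ∈ A
  dB : d ∈ B
  cdB : c * d ∈ B'
  ne : A ≠ B
  qA : QQ F A
  qB : QQ F B
  ui : UI B'
  compA : CompIn (D ⊓ centralizer ({d} : Set G)) A
  compB : CompIn (D ⊓ centralizer ({d} : Set G)) B
  compB' : CompIn (D ⊓ centralizer ({d} : Set G)) B'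

variable {F}

theorem PP.cmem {c d : G} {D A B B' : Subgroup G} (h : PP F c d D A B B') : c ∈ D := (h.compA.le h.cA).1

theorem PP.dmem {c d : G} {D A B B' : Subgroup G} (h : PP F c d D A B B') : d ∈ D := (h.compB.le h.dB).1

theorem PP.comm {c d : G} {D A B B' : Subgroup G} (h : PP F c d D A B B') : d * c = c * d :=
  mem_centralizer_iff.mp h.cD d h.dmem

theorem PP.cne {c d : G} {D A B B' : Subgroup G}
    (h : PP F c d D A B B') : c ≠ d := by
  intro hcd
  -- `c` would be in `A ∩ B`, hence... `C_D(d) = D`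
  have h1 : D ≤ centralizer ({d} : Set G) := by
    intro x hx
    rw [mem_cs, ← hcd]
    exact mem_centralizer_iff.mp h.cD x hx
  have h2 : D ⊓ centralizer ({d} : Set G) = D := inf_eq_left.mpr h1
  have hA := h.compA
  have hB := h.compB
  rw [h2] at hA hB
  exact h.ne ((hA.eq_of_le h.quasi le_rfl hA.le).trans (hB.eq_of_le h.quasi le_rfl hB.le).symm)

theorem PP.dnc {c d : G} {D A B B' : Subgroup G} (h : PP F c d D A B B') : d ∉ centralizer (D : Set G) := by
  intro hcd
  have h1 : D ≤ centralizer ({d} : Set G) := by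
    intro x hx
    rw [mem_cs]
    exact mem_centralizer_iff.mp hcd x hx
  have h2 : D ⊓ centralizer ({d} : Set G) = D := inf_eq_left.mpr h1
  have hA := h.compA
  have hB := h.compB
  rw [h2] at hA hB
  exact h.ne ((hA.eq_of_le h.quasi le_rfl hA.le).trans (hB.eq_of_le h.quasi le_rfl hB.le).symm)

theorem PP.neA [Fintype F] (hF : Odd (Fintype.card F)) {c d : G} {D A B B' : Subgroup G}
    (h : PP F c d D A B B') : B' ≠ A := by
  intro hA
  have h1 : c * d ∈ A := hA ▸ h.cdB
  have h2 : d ∈ A := by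
    have := mul_mem (inv_mem h.cA) h1
    rwa [inv_mul_cancel_left] at this
  exact h.cne (ui_of_sl hF h.qA c h.cA d h2 h.oc h.od)

theorem PP.neB [Fintype F] (hF : Odd (Fintype.card F)) {c d : G} {D A B B' : Subgroup G}
    (h : PP F c d D A B B') : B' ≠ B := by
  intro hB
  have h1 : c * d ∈ B := hB ▸ h.cdB
  have h2 : c ∈ B := by
    have := mul_mem h1 (inv_mem h.dB)
    rwa [mul_inv_cancel_right] at this
  exact h.cne (ui_of_sl hF h.qB c h2 d h.dB h.oc h.od)

end Conf

section S7

variable {S7 : ∀ (N : Type u) [Group N], N → N → Subgroup N → Subgroup N → Subgroup N → Prop}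
variable {F : Type} [Field F] [Fintype F]

/-- (F2') for a configuration in `N` with `O(N) = 1`. -/
theorem PP.s7 (hF2 : F2' S7) (hL : LieCl.{u}) (hF : Odd (Fintype.card F)) (h3 : 3 < Fintype.card F)
    {N : Type u} [Group N] [Finite N] (hO : oddCore N = ⊥) {c d : N} {A B B' : Subgroup N}
    (h : PP F c d ⊤ A B B') : S7 N c d A B B' := by
  have hq : IsQuasisimple N := Components.isQuasisimple_of_mulEquiv Subgroup.topEquiv h.quasi
  have hA := h.compA
  have hB := h.compB
  have hB' := h.compB'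
  rw [top_inf_eq] at hA hB hB'
  have hc : c ∈ center N := by
    rw [mem_center_iff]
    intro g
    exact mem_centralizer_iff.mp h.cD g (mem_top g)
  have hd : d ∉ center N := by
    intro hd
    apply h.dnc
    rw [mem_centralizer_iff]
    intro g _
    exact mem_center_iff.mp hd g
  obtain ⟨A', hA', hcd, hSL, hall, hS⟩ := hF2 N hq (center_two hO)
    (hL N hq d B h.od hd hB h.dB (isSL_of_qq hF h3 h.qB)) c d A B hc h.oc h.od h.cA h.dB h.ne hA hB
    ⟨F, inferInstance, inferInstance, hF, h3, h.qA, h.qB⟩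
  rcases hall B' hB' with h1 | h1 | h1
  · exact absurd h1 (h.neA hF)
  · exact absurd h1 (h.neB hF)
  · rw [h1]; exact hS

end S7

section Transport

variable {F : Type} [Field F] [Fintype F]

omit [Fintype F] in
/-- A configuration in `G`, inside `Y`, as a configuration of the group `↥Y`. -/
theorem PP.sub {G : Type*} [Group G] {c d : G} {D A B B' Y : Subgroup G} (h : PP F c d D A B B') (hY : D ≤ Y)
    (hc : c ∈ Y) (hd : d ∈ Y) :
    PP F (⟨c, hc⟩ : Y) ⟨d, hd⟩ (D.subgroupOf Y) (A.subgroupOf Y) (B.subgroupOf Y) (B'.subgroupOf Y) := by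
  have hA : A ≤ Y := (h.compA.le.trans inf_le_left).trans hY
  have hB : B ≤ Y := (h.compB.le.trans inf_le_left).trans hY
  have hB' : B' ≤ Y := (h.compB'.le.trans inf_le_left).trans hY
  have hle : D ⊓ centralizer ({d} : Set G) ≤ Y := inf_le_left.trans hY
  have e : (D ⊓ centralizer ({d} : Set G)).subgroupOf Y =
      D.subgroupOf Y ⊓ centralizer ({(⟨d, hd⟩ : Y)} : Set Y) := by
    ext x
    rw [mem_inf, mem_subgroupOf, mem_subgroupOf, mem_inf, mem_cs, mem_cs]
    exact and_congr_right fun _ => ⟨fun h => Subtype.ext h, fun h => congrArg Subtype.val h⟩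
  refine ⟨?_, ?_, ?_, ?_, h.cA, h.dB, h.cdB, ?_, ?_, ?_, ?_, ?_, ?_, ?_⟩
  · exact Components.isQuasisimple_of_mulEquiv (Subgroup.subgroupOfEquivOfLe hY).symm h.quasi
  · rw [mem_centralizer_iff]
    intro x hx
    exact Subtype.ext (mem_centralizer_iff.mp h.cD x hx)
  · rw [Subgroup.orderOf_mk]; exact h.oc
  · rw [Subgroup.orderOf_mk]; exact h.od
  · intro h1
    apply h.ne
    have := congrArg (Subgroup.map Y.subtype) h1
    rwa [Subgroup.map_subgroupOf_eq_of_le hA, Subgroup.map_subgroupOf_eq_of_le hB] at this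
  · obtain ⟨e1⟩ := h.qA
    exact ⟨(Subgroup.subgroupOfEquivOfLe hA).trans e1⟩
  · obtain ⟨e1⟩ := h.qB
    exact ⟨(Subgroup.subgroupOfEquivOfLe hB).trans e1⟩
  · intro x hx y hy hx2 hy2
    apply Subtype.ext
    exact h.ui x hx y hy (by rw [Subgroup.orderOf_coe]; exact hx2) (by rw [Subgroup.orderOf_coe]; exact hy2)
  · rw [← e]; exact h.compA.subgroupOf hle
  · rw [← e]; exact h.compB.subgroupOf hle
  · rw [← e]; exact h.compB'.subgroupOf hle

/-- The image of a configuration modulo a central subgroup of odd order. -/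
theorem PP.map {Y Z : Type*} [Group Y] [Group Z] {f : Y →* Z} (hf : COdd f) {c d : Y} {D A B B' : Subgroup Y}
    (h : PP F c d D A B B') : PP F (f c) (f d) (D.map f) (A.map f) (B.map f) (B'.map f) := by
  have hcd2 : d * d = 1 := sq_of_order h.od
  refine ⟨?_, ?_, hf.orderOf_map h.oc, hf.orderOf_map h.od, mem_map_of_mem f h.cA, mem_map_of_mem f h.dB, ?_,
    ?_, sl_map hf h.qA, sl_map hf h.qB, ?_, ?_, ?_, ?_⟩
  · have h1 : CompIn D D := by
      refine ⟨le_rfl, ?_, ?_⟩
      · rw [Subgroup.subgroupOf_self]; exact Subgroup.IsSubnormal.top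
      · exact Components.isQuasisimple_of_mulEquiv (Subgroup.subgroupOfEquivOfLe le_rfl).symm h.quasi
    exact (hf.comp_map h1).quasi
  · rw [mem_centralizer_iff]
    rintro _ ⟨x, hx, rfl⟩
    rw [← map_mul, ← map_mul, mem_centralizer_iff.mp h.cD x hx]
  · rw [← map_mul]; exact mem_map_of_mem f h.cdB
  · intro h1
    exact h.ne (hf.comp_inj h.compA h.compB h1)
  · rintro _ ⟨x, hx, rfl⟩ _ ⟨y, hy, rfl⟩ hx2 hy2
    -- lift the involutions
    have lift : ∀ x ∈ B', orderOf (f x) = 2 → ∃ x' ∈ B', f x' = f x ∧ orderOf x' = 2 := by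
      intro x hx hx2
      have h1 : x * x ∈ f.ker := by
        rw [MonoidHom.mem_ker, map_mul, sq_of_order hx2]
      obtain ⟨m, hm⟩ := hf.odd
      have h2 : (x * x) ^ (2 * m + 1) = 1 := by
        have := pow_card_eq_one' (G := f.ker) (x := ⟨x * x, h1⟩)
        rw [← hm]
        exact congrArg Subtype.val this
      refine ⟨x ^ (2 * m + 1), pow_mem hx _, ?_, ?_⟩
      · rw [map_pow, pow_succ, pow_mul, pow_two, sq_of_order hx2, one_pow, one_mul]
      · apply order_of_sq
        · rw [← (Commute.refl x).mul_pow, h2]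
        · intro h3
          have h4 : f (x ^ (2 * m + 1)) = f x := by
            rw [map_pow, pow_succ, pow_mul, pow_two, sq_of_order hx2, one_pow, one_mul]
          rw [h3, map_one] at h4
          rw [← h4, orderOf_one] at hx2
          exact absurd hx2 (by norm_num)
    obtain ⟨x', hx', e1, o1⟩ := lift x hx hx2
    obtain ⟨y', hy', e2, o2⟩ := lift y hy hy2
    rw [← e1, ← e2, h.ui x' hx' y' hy' o1 o2]
  · rw [← hf.map_inf_cs hcd2]; exact hf.comp_map h.compA
  · rw [← hf.map_inf_cs hcd2]; exact hf.comp_map h.compB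
  · rw [← hf.map_inf_cs hcd2]; exact hf.comp_map h.compB'

end Transport

/-! ### (F2') for the components of `C(S)` -/

section Inst

variable {S7 : ∀ (N : Type u) [Group N], N → N → Subgroup N → Subgroup N → Subgroup N → Prop}
variable {F : Type} [Field F] [Fintype F]

theorem f2p (hF2 : F2' S7) (hL : LieCl.{u}) (hF : Odd (Fintype.card F)) (h3 : 3 < Fintype.card F)
    {G : Type u} [Group G] [Finite G] : F2p (G := G) (QQ F) (PP F) := by
  intro S c d D A B _ _ hD hc hcD hd hcA hdB hA hB hne hcA' hcB'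
  have hq := hD.quasi
  have hcm : c ∈ D := (hcA'.le hcA).1
  have hdm : d ∈ D := (hcB'.le hdB).1
  have hAD : A ≤ D := hcA'.le.trans inf_le_left
  have hBD : B ≤ D := hcB'.le.trans inf_le_left
  set c' : D := ⟨c, hcm⟩ with hc'
  set d' : D := ⟨d, hdm⟩ with hd'
  have hc2' : orderOf c' = 2 := by rw [hc', Subgroup.orderOf_mk, hc]
  have hd2' : orderOf d' = 2 := by rw [hd', Subgroup.orderOf_mk, hd]
  have hdd : d' * d' = 1 := sq_of_order hd2'
  let f : ↥D →* (↥D ⧸ oddCore ↥D) := QuotientGroup.mk' (oddCore ↥D)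
  have hf : COdd f := cOdd_mk hq hd2'
  have hcomp : ∀ K : Subgroup G, CompIn (D ⊓ centralizer ({d} : Set G)) K →
      CompIn (centralizer ({d'} : Set D)) (K.subgroupOf D) := fun K hK => compIn_of_comp (hK.comp_of hdm)
  have hcompf : ∀ K : Subgroup G, CompIn (D ⊓ centralizer ({d} : Set G)) K →
      CompIn (centralizer ({f d'} : Set (↥D ⧸ oddCore ↥D))) ((K.subgroupOf D).map f) := by
    intro K hK
    rw [← hf.map_cs hdd]
    exact hf.comp_map (hcomp K hK)
  have hsl : ∀ K : Subgroup G, K ≤ D → QQ F K → QQ F ((K.subgroupOf D).map f) := by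
    rintro K hK ⟨e⟩
    exact sl_map hf ⟨(Subgroup.subgroupOfEquivOfLe hK).trans e⟩
  have hAB : (A.subgroupOf D).map f ≠ (B.subgroupOf D).map f := by
    intro h
    have h1 := hf.comp_inj (hcomp A hcA') (hcomp B hcB') h
    apply hne
    have := congrArg (Subgroup.map D.subtype) h1
    rwa [Subgroup.map_subgroupOf_eq_of_le hAD, Subgroup.map_subgroupOf_eq_of_le hBD] at this
  -- `N = D / O(D)`
  have hNq : IsQuasisimple (↥D ⧸ oddCore ↥D) := by
    have h1 : CompIn (⊤ : Subgroup D) ⊤ :=
      ⟨le_rfl, by rw [Subgroup.subgroupOf_self]; exact Subgroup.IsSubnormal.top,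
        Components.isQuasisimple_of_mulEquiv ((Subgroup.topEquiv.trans Subgroup.topEquiv).symm.trans
          (MulEquiv.subgroupCongr (Subgroup.subgroupOf_self _).symm)) hq⟩
    have h2 := (hf.comp_map h1).quasi
    rw [Subgroup.map_top_of_surjective f hf.surj] at h2
    exact Components.isQuasisimple_of_mulEquiv Subgroup.topEquiv h2
  have hNO : oddCore (↥D ⧸ oddCore ↥D) = ⊥ := oddCore_eq_bot hf (by rw [QuotientGroup.ker_mk'])
  have hcc : f c' ∈ center (↥D ⧸ oddCore ↥D) := by
    rw [mem_center_iff]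
    intro g
    obtain ⟨x, rfl⟩ := hf.surj g
    rw [← map_mul, ← map_mul]
    exact congrArg f (Subtype.ext (mem_centralizer_iff.mp hcD x x.2))
  have hdc : f d' ∉ center (↥D ⧸ oddCore ↥D) := by
    intro hcon
    apply hAB
    have h1 : centralizer ({f d'} : Set (↥D ⧸ oddCore ↥D)) = ⊤ := by
      rw [eq_top_iff]
      intro x _
      rw [mem_cs]
      exact mem_center_iff.mp hcon x
    have h2 := hcompf A hcA'
    have h4 := hcompf B hcB'
    rw [h1] at h2 h4
    have h5 : IsQuasisimple (⊤ : Subgroup (↥D ⧸ oddCore ↥D)) :=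
      Components.isQuasisimple_of_mulEquiv Subgroup.topEquiv.symm hNq
    rw [h2.eq_of_le h5 le_rfl le_top, h4.eq_of_le h5 le_rfl le_top]
  obtain ⟨A', hA', hcd, hSL, hall, -⟩ := hF2 (↥D ⧸ oddCore ↥D) hNq (center_two hNO)
    (hL _ hNq (f d') _ (hf.orderOf_map hd2') hdc (hcompf B hcB') (mem_map_of_mem f (show d' ∈ B.subgroupOf D from hdB))
      (isSL_of_qq hF h3 (hsl B hBD hB)))
    (f c') (f d') ((A.subgroupOf D).map f) ((B.subgroupOf D).map f) hcc (hf.orderOf_map hc2') (hf.orderOf_map hd2')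
    (mem_map_of_mem f (show c' ∈ A.subgroupOf D from hcA)) (mem_map_of_mem f (show d' ∈ B.subgroupOf D from hdB)) hAB
    (hcompf A hcA') (hcompf B hcB') ⟨F, inferInstance, inferInstance, hF, h3, hsl A hAD hA, hsl B hBD hB⟩
  -- lift the third component
  obtain ⟨K₀, hK₀, hK₀m⟩ := hf.comp_lift (H := centralizer ({d'} : Set D)) (L := A')
    (by rw [hf.map_cs hdd]; exact hA')
  have hB'c : CompIn (D ⊓ centralizer ({d} : Set G)) (K₀.map D.subtype) :=
    compIn_of_comp_sub hK₀.toComp
  have hui : UI (K₀.map D.subtype) := by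
    rintro _ ⟨x, hx, rfl⟩ _ ⟨y, hy, rfl⟩ hx2 hy2
    have hx2' : orderOf x = 2 := by rw [← Subgroup.orderOf_coe]; exact hx2
    have hy2' : orderOf y = 2 := by rw [← Subgroup.orderOf_coe]; exact hy2
    have h1 : f x = f y := ui_of_isSL hSL (f x) (hK₀m ▸ mem_map_of_mem f hx) (f y)
      (hK₀m ▸ mem_map_of_mem f hy) (hf.orderOf_map hx2') (hf.orderOf_map hy2')
    have h2 : x * y ∈ f.ker := by
      rw [MonoidHom.mem_ker, map_mul, h1, sq_of_order (hf.orderOf_map hy2')]
    have hcen := mem_center_iff.mp (hf.cen h2)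
    have h4 : x * y * (x * y) = 1 := by
      calc x * y * (x * y) = x * (y * (x * y)) := by group
        _ = x * (x * y * y) := by rw [hcen y]
        _ = (x * x) * (y * y) := by group
        _ = 1 := by rw [sq_of_order hx2', sq_of_order hy2', one_mul]
    have h5 := hf.eq_one_of_sq h2 h4
    have h6 : x = y := by
      rw [mul_eq_one_iff_eq_inv] at h5
      rw [h5]
      exact inv_eq_of_mul_eq_one_left (sq_of_order hy2')
    rw [h6]
  have hcd' : c * d ∈ K₀.map D.subtype := by
    refine ⟨c' * d', ?_, rfl⟩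
    apply hf.mem_of_map
    · have h1 : d' * c' = c' * d' := Subtype.ext (mem_centralizer_iff.mp hcD d hdm)
      calc c' * d' * (c' * d') = c' * (d' * c') * d' := by group
        _ = (c' * c') * (d' * d') := by rw [h1]; group
        _ = 1 := by rw [sq_of_order hc2', hdd, one_mul]
    · rw [hK₀m, map_mul]; exact hcd
  refine ⟨K₀.map D.subtype, hB'c, hui, hcd', ?_, hq, hcD, hc, hd, hcA, hdB, hcd', hne, hA, hB, hui, hcA',
    hcB', hB'c⟩
  intro K hK
  have hKD : K ≤ D := hK.le.trans inf_le_left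
  have back : ∀ L : Subgroup D, CompIn (centralizer ({d'} : Set D)) L → (K.subgroupOf D).map f = L.map f →
      K = L.map D.subtype := by
    intro L hL1 h
    have h1 := hf.comp_inj (hcomp K hK) hL1 h
    rw [← h1, Subgroup.map_subgroupOf_eq_of_le hKD]
  rcases hall _ (hcompf K hK) with h | h | h
  · left
    rw [back _ (hcomp A hcA') h, Subgroup.map_subgroupOf_eq_of_le hAD]
  · right; left
    rw [back _ (hcomp B hcB') h, Subgroup.map_subgroupOf_eq_of_le hBD]
  · right; right
    exact back _ hK₀ (by rw [h, hK₀m])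

end Inst

end Cfsg.Agent.OddHalf.NI.FrameKill

end
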