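import Cfsg.Agent.OddHalf.NI.FrameKill
import Cfsg.Agent.OddHalf.NI.NoFam

-- merged: Cfsg.Agent.OddHalf.NI.FrameSol
section

/-!
# THEOREM X from (F2'), (Sol) and (AutM): the end
-/

set_option autoImplicit false

namespace Cfsg.Agent.OddHalf.NI.FrameSol

open Subgroup Cfsg Cfsg.Agent.SignalizersComponents Cfsg.Agent.OddHalf.NI
open Cfsg.Agent.OddHalf.D3 (cj Comp mem_cs sq_of_order order_of_sq not_comm_self comm_elt conj_mem_cj comm_symm
  cj_eq_of_mem_centralizer cj_eq_of_mem cj_mono)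
open Cfsg.Agent.OddHalf.NI.ThmX (CInv F2p UI)
open Cfsg.Agent.OddHalf.NI.OddQ Cfsg.Agent.OddHalf.NI.FrameKill
open scoped commutatorElement

universe u

variable {S7 : ∀ (N : Type u) [Group N], N → N → Subgroup N → Subgroup N → Subgroup N → Prop}
variable {F : Type} [Field F] [Fintype F]

theorem compIn_self {Y : Type*} [Group Y] {D : Subgroup Y} (hq : IsQuasisimple D) : CompIn D D :=
  ⟨le_rfl, by rw [Subgroup.subgroupOf_self]; exact Subgroup.IsSubnormal.top,
    Components.isQuasisimple_of_mulEquiv (Subgroup.subgroupOfEquivOfLe le_rfl).symm hq⟩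

/-- `S7` holds in `D / O(D)`. -/
theorem s7_quot (hF2 : F2' S7) (hL : LieCl.{u}) (hF : Odd (Fintype.card F)) (h3 : 3 < Fintype.card F)
    {G : Type u} [Group G] [Finite G] {c d : G} {D A B B' : Subgroup G} (h : PP F c d D A B B') :
    S7 (↥D ⧸ oddCore ↥D) (QuotientGroup.mk' (oddCore ↥D) ⟨c, h.cmem⟩) (QuotientGroup.mk' (oddCore ↥D) ⟨d, h.dmem⟩)
      ((A.subgroupOf D).map (QuotientGroup.mk' (oddCore ↥D))) ((B.subgroupOf D).map (QuotientGroup.mk' (oddCore ↥D)))
      ((B'.subgroupOf D).map (QuotientGroup.mk' (oddCore ↥D))) := by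
  have hd2' : orderOf (⟨d, h.dmem⟩ : D) = 2 := by rw [Subgroup.orderOf_mk, h.od]
  have hf : COdd (QuotientGroup.mk' (oddCore ↥D)) := cOdd_mk h.quasi hd2'
  have h1 := (h.sub le_rfl h.cmem h.dmem).map hf
  rw [Subgroup.subgroupOf_self, Subgroup.map_top_of_surjective _ hf.surj] at h1
  exact h1.s7 hF2 hL hF h3 (oddCore_eq_bot hf (by rw [QuotientGroup.ker_mk']))

/-- `O(Du)` centralizes `Dv`. -/
theorem act (hF2 : F2' S7) (hA : AutM S7) (hL : LieCl.{u}) (hF : Odd (Fintype.card F)) (h3 : 3 < Fintype.card F)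
    {G : Type u} [Group G] [Finite G] {S : Set G} {u v : G} {Du Dv Ju Jv Jw : Subgroup G}
    (hDu : CompIn (centralizer (insert u S)) Du) (hDv : CompIn (centralizer (insert v S)) Dv)
    (Pu : PP F u v Du Ju Jv Jw) (Pv : PP F v u Dv Jv Ju Jw) :
    (oddCore ↥Du).map Du.subtype ≤ centralizer (Dv : Set G) := by
  rintro _ ⟨o₀, ho₀, rfl⟩
  -- a square root
  have hodd : Odd (Nat.card (oddCore ↥Du)) := Nat.coprime_two_right.mp (Lib.Cores.pPrimeCore_coprime 2)
  obtain ⟨m, hm⟩ := hodd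
  have hpow : o₀ ^ (2 * m + 1) = 1 := by
    rw [← hm]
    have := pow_card_eq_one' (G := oddCore ↥Du) (x := ⟨o₀, ho₀⟩)
    exact congrArg Subtype.val this
  obtain ⟨o₁, ho₁, hsq⟩ : ∃ o₁ ∈ oddCore ↥Du, o₁ * o₁ = o₀ := by
    refine ⟨o₀ ^ (m + 1), pow_mem ho₀ _, ?_⟩
    rw [← pow_add, show m + 1 + (m + 1) = 2 * m + 1 + 1 by ring, pow_succ, hpow, one_mul]
  have hcenter : oddCore ↥Du ≤ center ↥Du := oddCore_le_center Pu.quasi
    (b := ⟨u, Pu.cmem⟩) (by rw [Subgroup.orderOf_mk, Pu.oc])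
  obtain ⟨o, ho⟩ : ∃ o : G, o = (o₁ : G) := ⟨_, rfl⟩
  have hoD : o ∈ Du := ho ▸ o₁.2
  have hocomm : ∀ x ∈ Du, x * o = o * x := by
    intro x hx
    rw [ho]
    exact congrArg Subtype.val (mem_center_iff.mp (hcenter ho₁) ⟨x, hx⟩)
  have hJu : Ju ≤ Du := Pu.compA.le.trans inf_le_left
  have hJv : Jv ≤ Du := Pu.compB.le.trans inf_le_left
  have hJw : Jw ≤ Du := Pu.compB'.le.trans inf_le_left
  have hJvD : Jv ≤ Dv := Pv.compA.le.trans inf_le_left
  have hJuD : Ju ≤ Dv := Pv.compB.le.trans inf_le_left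
  have hJwD : Jw ≤ Dv := Pv.compB'.le.trans inf_le_left
  have hoC : o ∈ centralizer (insert v S) := by
    rw [mem_centralizer_iff]
    rintro s (rfl | hs)
    · exact hocomm _ (hJv Pu.dB)
    · exact mem_centralizer_iff.mp (hDu.le hoD) s (Set.mem_insert_of_mem _ hs)
  -- `o` normalizes `Dv`
  have hn : cj o Dv = Dv := by
    have h1 := hDv.conj_of_norm (cj_eq_of_mem hoC)
    by_contra hne
    have h2 := h1.comm hDv hne
    apply not_comm_self Pv.compA.quasi
    intro x hx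
    rw [mem_centralizer_iff]
    intro y hy
    have hx' : x ∈ cj o Dv := by
      have h4 := conj_mem_cj (g := o) (hJvD hx)
      rwa [← hocomm x (hJv hx), mul_inv_cancel_right] at h4
    exact (comm_elt h2 hx' (hJvD hy)).symm
  have hon : o ∈ normalizer (Dv : Set G) := D3.mem_normalizer_iff_cj.mpr hn
  let α₀ : MulAut Dv := Dv.normalizerMonoidHom ⟨o, hon⟩
  have hα₀ : ∀ x : Dv, ((α₀ x : Dv) : G) = o * x * o⁻¹ := fun x => rfl
  have hchar : (oddCore ↥Dv).map α₀.toMonoidHom = oddCore ↥Dv := Lib.Cores.map_equiv_pPrimeCore α₀ 2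
  let α : MulAut (↥Dv ⧸ oddCore ↥Dv) := QuotientGroup.congr (oddCore ↥Dv) (oddCore ↥Dv) α₀ hchar
  have hα : ∀ x : Dv, α (QuotientGroup.mk' (oddCore ↥Dv) x) = QuotientGroup.mk' (oddCore ↥Dv) (α₀ x) :=
    fun x => rfl
  have htriv : ∀ K : Subgroup G, K ≤ Du → ∀ x ∈ (K.subgroupOf Dv).map (QuotientGroup.mk' (oddCore ↥Dv)),
      α x = x := by
    rintro K hK _ ⟨x, hx, rfl⟩
    rw [hα]
    congr 1
    apply Subtype.ext
    rw [hα₀, ← hocomm (x : G) (hK hx), mul_inv_cancel_right]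
  have hα2 := hA _ _ _ _ _ _ (s7_quot hF2 hL hF h3 Pv) α (htriv Jv hJv) (htriv Ju hJu) (htriv Jw hJw)
  have key : ∀ x : Dv, (α₀ (α₀ x)) * x⁻¹ ∈ center Dv := by
    intro x
    have h1 : oddCore ↥Dv ≤ center ↥Dv := oddCore_le_center Pv.quasi
      (b := ⟨v, Pv.cmem⟩) (by rw [Subgroup.orderOf_mk, Pv.oc])
    apply h1
    have h2 : (α ^ 2) (QuotientGroup.mk' (oddCore ↥Dv) x) = QuotientGroup.mk' (oddCore ↥Dv) x := by
      rw [hα2]; rfl
    rw [pow_two, MulAut.mul_apply, hα, hα] at h2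
    rw [← QuotientGroup.ker_mk' (oddCore ↥Dv), MonoidHom.mem_ker, map_mul, map_inv, h2, mul_inv_cancel]
  have hfix := Cfsg.Agent.S1304.result (Pv.quasi.1.commutator_eq_top) (α₀.trans α₀) (fun x => key x)
  rw [mem_centralizer_iff]
  intro x hx
  have h1 := congrArg Subtype.val (hfix ⟨x, hx⟩)
  change o * (o * x * o⁻¹) * o⁻¹ = x at h1
  have h2 : (Du.subtype o₀ : G) = o * o := by
    rw [ho, ← hsq]; rfl
  rw [h2]
  calc x * (o * o) = (o * (o * x * o⁻¹) * o⁻¹) * (o * o) := by rw [h1]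
    _ = o * o * x := by group

/-- **Solomon's configuration** for components of `C(u)`, `C(v)` with centres of arbitrary order. -/
theorem sol_of (hF2 : F2' S7) (hA : AutM S7) (hS : NI.Sol S7) (hL : LieCl.{u}) (hF : Odd (Fintype.card F))
    (h3 : 3 < Fintype.card F) {G : Type u} [Group G] [Finite G] : ThmX.Sol (G := G) (PP F) := by
  intro S u v Du Dv Ju Jv Jw hI huv hDu hDv Pu Pv
  have hOu := act hF2 hA hL hF h3 hDu hDv Pu Pv
  have hOv : (oddCore ↥Dv).map Dv.subtype ≤ centralizer (Du : Set G) := by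
    -- the roles of `u` and `v` exchanged
    have hPv : PP F v u Dv Jv Ju Jw := Pv
    exact act hF2 hA hL hF h3 hDv hDu hPv Pu
  have huC := Pu.cD
  obtain ⟨Y, hY⟩ : ∃ Y : Subgroup G, Y = Du ⊔ Dv := ⟨_, rfl⟩
  have hDuY : Du ≤ Y := hY ▸ le_sup_left
  have hDvY : Dv ≤ Y := hY ▸ le_sup_right
  have huY : u ∈ Y := hDuY Pu.cmem
  have hvY : v ∈ Y := hDvY Pv.cmem
  have hYS : Y ≤ centralizer S := by
    rw [hY, sup_le_iff]
    exact ⟨hDu.le.trans (centralizer_le (Set.subset_insert _ _)),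
      hDv.le.trans (centralizer_le (Set.subset_insert _ _))⟩
  -- the central subgroup of odd order
  let ι : ↥(center ↥Y) →* ↥Y := (center ↥Y).subtype
  obtain ⟨K₀, hK₀⟩ : ∃ K₀ : Subgroup ↥Y, K₀ = (oddCore ↥(center ↥Y)).map ι := ⟨_, rfl⟩
  have hK₀c : K₀ ≤ center ↥Y := by
    rw [hK₀]
    rintro _ ⟨x, -, rfl⟩
    exact x.2
  have hK₀n : K₀.Normal := by
    refine ⟨fun n hn g => ?_⟩
    rw [mem_center_iff.mp (hK₀c hn) g, mul_inv_cancel_right]
    exact hn
  have hK₀o : Odd (Nat.card K₀) := by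
    rw [hK₀, Nat.card_congr ((oddCore ↥(center ↥Y)).equivMapOfInjective ι (Subgroup.subtype_injective _)).symm.toEquiv]
    exact Nat.coprime_two_right.mp (Lib.Cores.pPrimeCore_coprime 2)
  have hK₀mem : ∀ x : ↥Y, x ∈ center ↥Y → Odd (orderOf x) → x ∈ K₀ := by
    intro x hx hox
    rw [hK₀]
    refine ⟨⟨x, hx⟩, ?_, rfl⟩
    have hn : (zpowers (⟨x, hx⟩ : center ↥Y)).Normal := by
      refine ⟨fun n hn g => ?_⟩
      have : g * n = n * g := Subtype.ext (mem_center_iff.mp n.2 g)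
      rw [this, mul_inv_cancel_right]
      exact hn
    refine Lib.Cores.le_pPrimeCore hn ?_ (mem_zpowers _)
    rw [Nat.card_zpowers, Subgroup.orderOf_mk, Nat.coprime_two_right]
    exact hox
  let f : ↥Y →* (↥Y ⧸ K₀) := QuotientGroup.mk' K₀
  have hf : COdd f :=
    { surj := QuotientGroup.mk'_surjective _
      cen := by rw [QuotientGroup.ker_mk']; exact hK₀c
      odd := by rw [QuotientGroup.ker_mk']; exact hK₀o }
  -- the odd cores of `Du`, `Dv` are in the kernel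
  have hker : ∀ D : Subgroup G, D ≤ Y → (oddCore ↥D).map D.subtype ≤ centralizer (Y : Set G) →
      ∀ x (hx : x ∈ Y), x ∈ (oddCore ↥D).map D.subtype → (⟨x, hx⟩ : ↥Y) ∈ f.ker := by
    intro D hD hc x hx hxO
    rw [QuotientGroup.ker_mk']
    apply hK₀mem
    · rw [mem_center_iff]
      intro g
      exact Subtype.ext (mem_centralizer_iff.mp (hc hxO) g g.2)
    · rw [Subgroup.orderOf_mk]
      obtain ⟨x₀, hx₀, rfl⟩ := hxO
      have h1 : Odd (Nat.card (oddCore ↥D)) := Nat.coprime_two_right.mp (Lib.Cores.pPrimeCore_coprime 2)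
      change Odd (orderOf ((x₀ : ↥D) : G))
      rw [Subgroup.orderOf_coe]
      have h2 : orderOf x₀ ∣ Nat.card (oddCore ↥D) := by
        have h4 := orderOf_dvd_natCard (⟨x₀, hx₀⟩ : oddCore ↥D)
        rwa [Subgroup.orderOf_mk] at h4
      exact Odd.of_dvd_nat h1 h2
  have hcenY : ∀ D E : Subgroup G, Y = D ⊔ E → (oddCore ↥D ≤ center ↥D) →
      (oddCore ↥D).map D.subtype ≤ centralizer (E : Set G) →
      (oddCore ↥D).map D.subtype ≤ centralizer (Y : Set G) := by
    intro D E hDE h1 h2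
    rw [hDE, le_centralizer_iff, sup_le_iff]
    constructor
    · rw [le_centralizer_iff]
      rintro _ ⟨x, hx, rfl⟩
      rw [mem_centralizer_iff]
      intro y hy
      exact congrArg Subtype.val (mem_center_iff.mp (h1 hx) ⟨y, hy⟩)
    · rw [le_centralizer_iff]; exact h2
  have hcu : oddCore ↥Du ≤ center ↥Du := oddCore_le_center Pu.quasi
    (b := ⟨u, Pu.cmem⟩) (by rw [Subgroup.orderOf_mk, Pu.oc])
  have hcv : oddCore ↥Dv ≤ center ↥Dv := oddCore_le_center Pv.quasi
    (b := ⟨v, Pv.cmem⟩) (by rw [Subgroup.orderOf_mk, Pv.oc])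
  have hkeru := hker Du hDuY (hcenY Du Dv hY hcu hOu)
  have hkerv := hker Dv hDvY (hcenY Dv Du (hY.trans (sup_comm _ _)) hcv hOv)
  -- the images
  have Pu' := (Pu.sub hDuY huY hvY).map hf
  have Pv' := (Pv.sub hDvY hvY huY).map hf
  set ub : ↥Y ⧸ K₀ := f ⟨u, huY⟩ with hub
  set vb : ↥Y ⧸ K₀ := f ⟨v, hvY⟩ with hvb
  set Lu : Subgroup (↥Y ⧸ K₀) := (Du.subgroupOf Y).map f with hLu
  set Lv : Subgroup (↥Y ⧸ K₀) := (Dv.subgroupOf Y).map f with hLv
  have hcore : ∀ D : Subgroup G, D ≤ Y →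
      (∀ x (hx : x ∈ Y), x ∈ (oddCore ↥D).map D.subtype → (⟨x, hx⟩ : ↥Y) ∈ f.ker) →
      oddCore ↥((D.subgroupOf Y).map f) = ⊥ := by
    intro D hD hk
    let g : ↥D →* ↥((D.subgroupOf Y).map f) :=
      (f.subgroupMap (D.subgroupOf Y)).comp (Subgroup.subgroupOfEquivOfLe hD).symm.toMonoidHom
    have hg : Function.Surjective g := (f.subgroupMap_surjective _).comp (MulEquiv.surjective _)
    have hgv : ∀ x : ↥D, ((g x : ↥((D.subgroupOf Y).map f)) : ↥Y ⧸ K₀) = f ⟨x, hD x.2⟩ := fun x => rfl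
    have hgk : ∀ x : ↥D, x ∈ g.ker → (⟨x, hD x.2⟩ : ↥Y) ∈ f.ker := by
      intro x hx
      rw [MonoidHom.mem_ker, ← hgv, MonoidHom.mem_ker.mp hx]
      rfl
    have hgo : COdd g := by
      refine ⟨hg, ?_, ?_⟩
      · intro x hx
        rw [mem_center_iff]
        intro y
        have h1 := mem_center_iff.mp (hf.cen (hgk x hx)) ⟨y, hD y.2⟩
        have h2 : (y : G) * (x : G) = (x : G) * (y : G) := congrArg Subtype.val h1
        exact Subtype.ext h2
      · let j : ↥g.ker →* ↥f.ker :=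
          { toFun := fun x => ⟨⟨x, hD x.1.2⟩, hgk x.1 x.2⟩
            map_one' := rfl
            map_mul' := fun _ _ => rfl }
        have hj : Function.Injective j := by
          intro x y h
          apply Subtype.ext
          apply Subtype.ext
          exact congrArg (fun z : ↥f.ker => ((z : ↥Y) : G)) h
        exact Odd.of_dvd_nat hf.odd (Subgroup.card_dvd_of_injective j hj)
    apply oddCore_eq_bot hgo
    intro x hx
    rw [MonoidHom.mem_ker]
    apply Subtype.ext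
    rw [hgv]
    exact hk x (hD x.2) ⟨x, hx, rfl⟩
  -- components of `C(ub)`, `C(vb)`
  have hcomp : ∀ (w : G) (hw : w ∈ Y) (hw2 : orderOf w = 2) (D : Subgroup G), D ≤ Y →
      CompIn (centralizer (insert w S)) D → Comp (f ⟨w, hw⟩) ((D.subgroupOf Y).map f) := by
    intro w hw hw2 D hD hDc
    have h1 : CompIn (Y ⊓ centralizer ({w} : Set G)) D := by
      refine hDc.mono (le_inf hD ?_) ?_
      · exact hDc.le.trans (centralizer_le (Set.singleton_subset_iff.mpr (Set.mem_insert _ _)))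
      · rw [ThmX.centralizer_insert]
        exact inf_le_inf_right _ hYS
    have h2 : CompIn (centralizer ({(⟨w, hw⟩ : ↥Y)} : Set ↥Y)) (D.subgroupOf Y) :=
      compIn_of_comp (h1.comp_of hw)
    have h4 : (⟨w, hw⟩ : ↥Y) * ⟨w, hw⟩ = 1 := sq_of_order (by rw [Subgroup.orderOf_mk, hw2])
    have h5 := hf.comp_map h2
    rw [hf.map_cs h4] at h5
    exact h5.toComp
  have hu2 : orderOf u = 2 := Pu.oc
  have hv2 : orderOf v = 2 := Pu.od
  have hcLu : Comp ub Lu := hcomp u huY hu2 Du hDuY hDu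
  have hcLv : Comp vb Lv := hcomp v hvY hv2 Dv hDvY hDv
  have hne : ub ≠ vb := Pu'.cne
  have hcomm : ub * vb = vb * ub := Pu'.comm.symm
  -- `S7` in `Lu` and `Lv`
  have hs7u : ∀ (hu : ub ∈ Lu) (hv : vb ∈ Lu), S7 ↥Lu ⟨ub, hu⟩ ⟨vb, hv⟩ (((Ju.subgroupOf Y).map f).subgroupOf Lu)
      (((Jv.subgroupOf Y).map f).subgroupOf Lu) (((Jw.subgroupOf Y).map f).subgroupOf Lu) := by
    intro hu hv
    have h1 := Pu'.sub le_rfl hu hv
    rw [Subgroup.subgroupOf_self] at h1
    exact h1.s7 hF2 hL hF h3 (hcore Du hDuY hkeru)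
  have hs7v : ∀ (hu : ub ∈ Lv) (hv : vb ∈ Lv), S7 ↥Lv ⟨vb, hv⟩ ⟨ub, hu⟩ (((Jv.subgroupOf Y).map f).subgroupOf Lv)
      (((Ju.subgroupOf Y).map f).subgroupOf Lv) (((Jw.subgroupOf Y).map f).subgroupOf Lv) := by
    intro hu hv
    have h1 := Pv'.sub le_rfl hv hu
    rw [Subgroup.subgroupOf_self] at h1
    exact h1.s7 hF2 hL hF h3 (hcore Dv hDvY hkerv)
  exact hS (↥Y ⧸ K₀) ub vb Lu Lv _ _ _ Pu'.oc Pu'.od hne hcomm hcLu hcLv Pu'.cA Pu'.dB Pu'.cdB
    ⟨F, inferInstance, inferInstance, hF, h3, Pu'.qA, Pu'.qB⟩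
    (Pu'.compA.le.trans inf_le_left) (Pu'.compB.le.trans inf_le_left) (Pu'.compB'.le.trans inf_le_left)
    (Pv'.compB.le.trans inf_le_left) (Pv'.compA.le.trans inf_le_left) (Pv'.compB'.le.trans inf_le_left)
    hs7u hs7v

end Cfsg.Agent.OddHalf.NI.FrameSol

end

-- merged: Cfsg.Agent.OddHalf.NI.NoFrame
section

/-!
# No frames: the final forms of THEOREM X

* `no_family`: no nonempty finite family of components `J i ≅ SL₂(F)` of `C(y '' R)`, `y i ∈ J i`, the `y i`
  distinct, no product of two of them equal to a third one.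
* `no_pair`: no two commuting components `A`, `B` of `C({a, b})`, `a ∈ A`, `b ∈ B`, `a ≠ b`.
* `no_frame`: no component `N` of `C(z)` with `z ∈ N` has a frame.
-/

set_option autoImplicit false

namespace Cfsg.Agent.OddHalf.NI.NoFrame

open Subgroup Cfsg Cfsg.Agent.SignalizersComponents Cfsg.Agent.OddHalf.NI
open Cfsg.Agent.OddHalf.D3 (cj Comp mem_cs sq_of_order order_of_sq not_comm_self comm_elt FT BL)
open Cfsg.Agent.OddHalf.NI.ThmX (CInv F2p UI)
open Cfsg.Agent.OddHalf.NI.OddQ Cfsg.Agent.OddHalf.NI.FrameKill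
open scoped commutatorElement

universe u

theorem bl_of_core {G : Type*} [Group G] [Finite G] (hFT : FT G)
    (h : ∀ t : G, orderOf t = 2 → centralizerPPrimeCore 2 t = ⊥) : BL G := by
  intro y hy
  have h0 : pPrimeCore 2 ↥(centralizer ({y} : Set G)) = ⊥ := by
    have h1 := h y hy
    unfold centralizerPPrimeCore at h1
    rwa [Subgroup.map_eq_bot_iff_of_injective _ (Subgroup.subtype_injective _)] at h1
  exact pLayer_eq_layer (fun K hK => hFT.even' hK.2)
    (fun J _ => by rw [h0, Subgroup.commutator_bot_right])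

section

variable {S7 : ∀ (N : Type u) [Group N], N → N → Subgroup N → Subgroup N → Subgroup N → Prop}

/-- **THEOREM X** in the world `Ctx`. -/
theorem no_family (hF2 : F2' S7) (hA : AutM S7) (hS : NI.Sol S7) (hL : LieCl.{u})
    (hft : ∀ (X : Type u) [Group X] [Finite X], Odd (Nat.card X) → Group.IsSolvable X)
    {G : Type u} [Group G] (C : Iface.Ctx G) (F : Type) [Field F] [Fintype F] (hF : Odd (Fintype.card F))
    (h3 : 3 < Fintype.card F) {ι : Type*} (R : Finset ι) (hne : R.Nonempty) (J : ι → Subgroup G) (y : ι → G)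
    (hJ : ∀ i ∈ R, CompIn (centralizer (y '' (R : Set ι))) (J i))
    (hQ : ∀ i ∈ R, Nonempty (↥(J i) ≃* Matrix.SpecialLinearGroup (Fin 2) F))
    (hy : ∀ i ∈ R, y i ∈ J i) (ho : ∀ i ∈ R, orderOf (y i) = 2)
    (hinj : ∀ i ∈ R, ∀ k ∈ R, i ≠ k → y i ≠ y k)
    (h3' : ∀ a ∈ R, ∀ b ∈ R, ∀ c ∈ R, a ≠ b → a ≠ c → b ≠ c → y a * y b ≠ y c) : False := by
  have := C.fin
  have hFT : FT G := fun H hH => hft H hH
  have hBL := bl_of_core hFT C.bal
  have hP := ThmXOf.pumpV hFT hBL (fun H => C.bprop ↥H)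
  exact ThmX.false_of_frame hP (Q := QQ F) (P := PP F) (fun K hK => ui_of_sl hF hK)
    (fun z K hz hzK hK hc => Final.not_isSL C hz hc.toComp hzK (isSL_of_qq hF h3 hK))
    (f2p hF2 hL hF h3) (FrameSol.sol_of hF2 hA hS hL hF h3) R hne J y hJ hQ hy ho hinj h3'

/-- Two components of `C({a, b})`. -/
theorem no_pair (hF2 : F2' S7) (hA : AutM S7) (hS : NI.Sol S7) (hL : LieCl.{u})
    (hft : ∀ (X : Type u) [Group X] [Finite X], Odd (Nat.card X) → Group.IsSolvable X)
    {G : Type u} [Group G] (C : Iface.Ctx G) {A B : Subgroup G} {a b : G}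
    (hAB : SameSL ↥A ↥B) (ha : a ∈ A) (hb : b ∈ B) (hoa : orderOf a = 2) (hob : orderOf b = 2) (hab : a ≠ b)
    (hcA : CompIn (centralizer ({a, b} : Set G)) A) (hcB : CompIn (centralizer ({a, b} : Set G)) B) : False := by
  obtain ⟨F, i1, i2, hF, h3, eA, eB⟩ := hAB
  have himg : (fun i : Fin 2 => ![a, b] i) '' ((Finset.univ : Finset (Fin 2)) : Set (Fin 2)) = {a, b} := by
    ext x
    constructor
    · rintro ⟨i, -, rfl⟩
      fin_cases i
      · exact Or.inl rfl
      · exact Or.inr rfl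
    · rintro (rfl | rfl)
      · exact ⟨0, Finset.mem_coe.mpr (Finset.mem_univ _), rfl⟩
      · exact ⟨1, Finset.mem_coe.mpr (Finset.mem_univ _), rfl⟩
  refine no_family hF2 hA hS hL hft C F hF h3 (Finset.univ : Finset (Fin 2)) ⟨0, Finset.mem_univ _⟩
    ![A, B] (fun i => ![a, b] i) ?_ ?_ ?_ ?_ ?_ ?_
  · intro i _
    rw [himg]
    fin_cases i
    · exact hcA
    · exact hcB
  · intro i _
    fin_cases i
    · exact eA
    · exact eB
  · intro i _
    fin_cases i
    · exact ha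
    · exact hb
  · intro i _
    fin_cases i
    · exact hoa
    · exact hob
  · intro i _ k _ hik
    fin_cases i <;> fin_cases k
    · exact absurd rfl hik
    · exact hab
    · exact fun h => hab h.symm
    · exact absurd rfl hik
  · intro i _ j _ k _ hij hik hjk
    exfalso
    have h1 : i.val ≠ j.val := fun h => hij (Fin.ext h)
    have h2 : i.val ≠ k.val := fun h => hik (Fin.ext h)
    have h4 : j.val ≠ k.val := fun h => hjk (Fin.ext h)
    have := i.2
    have := j.2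
    have := k.2
    omega

/-- **No component `N ∋ z` of `C(z)` has a frame.** -/
theorem no_frame (hF2 : F2' S7) (hA : AutM S7) (hS : NI.Sol S7) (hL : LieCl.{u})
    (hft : ∀ (X : Type u) [Group X] [Finite X], Odd (Nat.card X) → Group.IsSolvable X)
    {G : Type u} [Group G] (C : Iface.Ctx G) {z : G} {N : Subgroup G} (hN : Comp z N) (hzN : z ∈ N)
    (fr : Frame ↥N ⟨z, hzN⟩) : False := by
  letI := fr.field
  letI := fr.fin
  have hq : ∀ i, IsQuasisimple ↥(fr.J i) := fun i =>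
    Final.isSL_quasi ⟨fr.F, fr.field, fr.fin, fr.odd, fr.card, fr.iso i⟩
  -- the involutions in `G`
  have himg : (fun i => ((fr.y i : ↥N) : G)) '' ((Finset.univ : Finset (Fin fr.m)) : Set (Fin fr.m)) =
      N.subtype '' (Set.range fr.y) := by
    rw [Finset.coe_univ, Set.image_univ]
    ext x
    constructor
    · rintro ⟨i, rfl⟩
      exact ⟨fr.y i, ⟨i, rfl⟩, rfl⟩
    · rintro ⟨_, ⟨i, rfl⟩, rfl⟩
      exact ⟨i, rfl⟩
  set V : Set G := (fun i => ((fr.y i : ↥N) : G)) '' ((Finset.univ : Finset (Fin fr.m)) : Set (Fin fr.m))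
    with hV
  -- `C(V) ≤ C(z)`
  have hVz : centralizer V ≤ centralizer ({z} : Set G) := by
    have h1 : z ∈ Subgroup.closure V := by
      rw [himg, ← MonoidHom.map_closure]
      exact ⟨⟨z, hzN⟩, fr.gen, rfl⟩
    rw [← Subgroup.centralizer_closure V]
    exact centralizer_le (Set.singleton_subset_iff.mpr h1)
  have hpos : 0 < fr.m := fr.pos
  refine no_family hF2 hA hS hL hft C fr.F fr.odd fr.card (Finset.univ : Finset (Fin fr.m))
    ⟨⟨0, hpos⟩, Finset.mem_univ _⟩ (fun i => (fr.J i).map N.subtype) (fun i => ((fr.y i : ↥N) : G)) ?_ ?_ ?_ ?_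
    ?_ ?_
  · intro i _
    -- `J i` is a component of `N ⊓ C(y i)`
    have hcJ : Comp (fr.y i) (fr.J i) :=
      ⟨fr.le i, fr.sub i, Components.isQuasisimple_of_mulEquiv (subgroupOfEquivOfLe (fr.le i)).symm (hq i)⟩
    have h1 : CompIn (N ⊓ centralizer ({((fr.y i : ↥N) : G)} : Set G)) ((fr.J i).map N.subtype) :=
      compIn_of_comp_sub hcJ
    have hle : (fr.J i).map N.subtype ≤ centralizer V := by
      rintro _ ⟨x, hx, rfl⟩
      rw [mem_centralizer_iff]
      rintro _ ⟨k, -, rfl⟩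
      by_cases hik : i = k
      · subst hik
        exact (congrArg Subtype.val (mem_cs.mp (fr.le i hx))).symm
      · exact (congrArg Subtype.val (fr.comm i k hik x hx (fr.y k) (fr.mem k))).symm
    have h2 : CompIn (N ⊓ centralizer V) ((fr.J i).map N.subtype) := by
      refine h1.mono (le_inf (h1.le.trans inf_le_left) hle) (inf_le_inf_left _ ?_)
      exact centralizer_le (Set.singleton_subset_iff.mpr ⟨i, Finset.mem_coe.mpr (Finset.mem_univ _), rfl⟩)
    exact Final.CompIn.of_inf (compIn_of_comp hN) hVz h2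
  · intro i _
    obtain ⟨e⟩ := fr.iso i
    exact ⟨((fr.J i).equivMapOfInjective N.subtype N.subtype_injective).symm.trans e⟩
  · intro i _
    exact mem_map_of_mem N.subtype (fr.mem i)
  · intro i _
    rw [Subgroup.orderOf_coe]
    exact fr.ord i
  · intro i _ k _ hik h
    exact hik (fr.inj (Subtype.ext h))
  · intro a _ b _ c _ hab hac hbc h
    exact fr.three a b c hab hac hbc (Subtype.ext h)

end

end Cfsg.Agent.OddHalf.NI.NoFrame

end

-- merged: Cfsg.Agent.OddHalf.NI.NoFamOf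
section

/-!
# `NoFam` from THEOREM X (`NoFrame.no_family`)
-/

set_option autoImplicit false

namespace Cfsg.Agent.OddHalf.NI

open Subgroup Cfsg Cfsg.Agent.OddHalf.Iface

universe u

/-- **THEOREM X** in the form consumed by `niv`. -/
theorem noFam {S7 : ∀ (N : Type u) [Group N], N → N → Subgroup N → Subgroup N → Subgroup N → Prop}
    (hF2 : F2' S7) (hA : AutM S7) (hS : NI.Sol S7) (hL : FrameKill.LieCl.{u})
    (hft : ∀ (X : Type u) [Group X] [Finite X], Odd (Nat.card X) → Group.IsSolvable X) :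
    ∀ (G : Type u) [Group G], Ctx G → NoFam G := by
  intro G _ C F _ _ hF h3 m J y pos hJ hQ hy ho hinj hthree
  have himg : y '' ((Finset.univ : Finset (Fin m)) : Set (Fin m)) = Set.range y := by
    rw [Finset.coe_univ, Set.image_univ]
  refine NoFrame.no_family hF2 hA hS hL hft C F hF h3 Finset.univ ⟨⟨0, pos⟩, Finset.mem_univ _⟩ J y
    (fun i _ => ?_) (fun i _ => hQ i) (fun i _ => hy i) (fun i _ => ho i) (fun i _ k _ hik h => hik (hinj h))
    (fun a _ b _ c _ hab hac hbc => hthree a b c hab hac hbc)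
  rw [himg]
  exact hJ i

end Cfsg.Agent.OddHalf.NI

end
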